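import Mathlib

/-!
# Pronormal fixed point sets: basic facts

For a group `G` acting on a finite set and a finite set `F`, `Pro G F` says that every translate
`g • F` is already `w • F` for some `w` generated by the pointwise stabilisers of `F` and of
`g • F`. This is what remains of pronormality of a subgroup with fixed point set `F`.
-/

set_option autoImplicit false
set_option linter.unusedSectionVars false
set_option linter.style.haveILetI false
set_option linter.unusedDecidableInType false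

namespace Cfsg.Agent.Perm.Pronormal

open MulAction Finset
open scoped Pointwise

variable {G Ω : Type} [Group G] [Fintype Ω] [DecidableEq Ω] [MulAction G Ω]

/-- The pointwise stabiliser of a finite set. -/
def fixer (G : Type) [Group G] {Ω : Type} [MulAction G Ω] (A : Finset Ω) : Subgroup G :=
  fixingSubgroup G (A : Set Ω)

theorem mem_fixer {A : Finset Ω} {g : G} : g ∈ fixer G A ↔ ∀ a ∈ A, g • a = a := by
  simp [fixer, mem_fixingSubgroup_iff]

theorem fixer_mono {A B : Finset Ω} (h : A ⊆ B) : fixer G B ≤ fixer G A := fun _ hg =>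
  mem_fixer.2 fun a ha => mem_fixer.1 hg a (h ha)

theorem smul_set_eq_of_fixer {A : Finset Ω} {g : G} (hg : g ∈ fixer G A) : g • A = A := by
  ext a
  simp only [mem_smul_finset]
  refine ⟨?_, fun ha => ⟨a, ha, mem_fixer.1 hg a ha⟩⟩
  rintro ⟨b, hb, rfl⟩
  rwa [mem_fixer.1 hg b hb]

theorem conj_mem_fixer {A : Finset Ω} {g h : G} (hh : h ∈ fixer G A) :
    g * h * g⁻¹ ∈ fixer G (g • A) := by
  refine mem_fixer.2 fun a ha => ?_
  obtain ⟨b, hb, rfl⟩ := mem_smul_finset.1 ha
  rw [mul_smul, mul_smul, inv_smul_smul, mem_fixer.1 hh b hb]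

/-- The abstract form of pronormality. -/
def Pro (G : Type) [Group G] {Ω : Type} [DecidableEq Ω] [MulAction G Ω] (F : Finset Ω) : Prop :=
  ∀ g : G, ∃ w ∈ fixer G F ⊔ fixer G (g • F), w • F = g • F

variable {F : Finset Ω}

/-- Only `F` itself among its translates is left invariant by the stabiliser of `F`. -/
theorem eq_of_invariant (hP : Pro G F) (g : G) (h : ∀ k ∈ fixer G F, k • (g • F) = g • F) :
    g • F = F := by
  obtain ⟨w, hw, hwF⟩ := hP g
  have hle : fixer G F ⊔ fixer G (g • F) ≤ stabilizer G (g • F) :=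
    sup_le (fun k hk => h k hk) fun k hk => smul_set_eq_of_fixer hk
  have := (hle hw : w • (g • F) = g • F)
  rw [← hwF] at this
  exact (hwF ▸ smul_left_cancel w this : g • F = F)

/-- No translate holds a nonempty invariant set of moved points. -/
theorem not_subset_of_invariant (hP : Pro G F) {Z : Finset Ω} (hne : Z.Nonempty)
    (hd : ∀ z ∈ Z, z ∉ F) (hinv : ∀ k ∈ fixer G F, ∀ z ∈ Z, k • z ∈ Z) (g : G) :
    ¬ Z ⊆ g • F := by
  intro hsub
  obtain ⟨w, hw, hwF⟩ := hP g
  have h1 : fixer G F ≤ stabilizer G Z := fun k hk => by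
    refine mem_stabilizer_iff.2 (eq_of_subset_of_card_le ?_ (le_of_eq (card_smul_finset _ _).symm))
    intro z hz
    obtain ⟨y, hy, rfl⟩ := mem_smul_finset.1 hz
    exact hinv k hk y hy
  have h2 : fixer G (g • F) ≤ stabilizer G Z := fun k hk =>
    mem_stabilizer_iff.2 (smul_set_eq_of_fixer (fixer_mono hsub hk))
  obtain ⟨z, hz⟩ := hne
  have hwZ : w • Z = Z := sup_le h1 h2 hw
  have hz1 : w⁻¹ • z ∈ Z := by
    rw [inv_smul_mem_iff, hwZ]; exact hz
  refine hd _ hz1 ?_
  rw [inv_smul_mem_iff, hwF]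
  exact hsub hz

/-- The translates through `A ⊆ F` are conjugate under the pointwise stabiliser of `A`. -/
theorem exists_fixer_smul (hP : Pro G F) {A : Finset Ω} (hA : A ⊆ F) (g : G) (hg : A ⊆ g • F) :
    ∃ w ∈ fixer G A, w • F = g • F := by
  obtain ⟨w, hw, hwF⟩ := hP g
  exact ⟨w, sup_le (fixer_mono hA) (fixer_mono hg) hw, hwF⟩

/-- The orbit of `x` under the pointwise stabiliser of `A`. -/
noncomputable def orb (G : Type) [Group G] {Ω : Type} [Fintype Ω] [MulAction G Ω] (A : Finset Ω)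
    (x : Ω) : Finset Ω := by
  classical exact univ.filter fun y => ∃ h ∈ fixer G A, h • x = y

theorem mem_orb {A : Finset Ω} {x y : Ω} : y ∈ orb G A x ↔ ∃ h ∈ fixer G A, h • x = y := by
  simp [orb]

theorem self_mem_orb (A : Finset Ω) (x : Ω) : x ∈ orb G A x :=
  mem_orb.2 ⟨1, one_mem _, one_smul _ _⟩

theorem smul_mem_orb {A : Finset Ω} {x y : Ω} {h : G} (hh : h ∈ fixer G A) (hy : y ∈ orb G A x) :
    h • y ∈ orb G A x := by
  obtain ⟨h', hh', rfl⟩ := mem_orb.1 hy
  exact mem_orb.2 ⟨h * h', mul_mem hh hh', mul_smul _ _ _⟩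

theorem orb_subset {A R : Finset Ω} {x : Ω} (hx : x ∈ R)
    (hinv : ∀ h ∈ fixer G A, ∀ z ∈ R, h • z ∈ R) : orb G A x ⊆ R := fun y hy => by
  obtain ⟨h, hh, rfl⟩ := mem_orb.1 hy
  exact hinv h hh x hx

theorem not_mem_orb {A : Finset Ω} {x y : Ω} (hx : x ∉ A) (hy : y ∈ orb G A x) : y ∉ A := by
  obtain ⟨h, hh, rfl⟩ := mem_orb.1 hy
  intro hA
  exact hx (smul_left_cancel h (mem_fixer.1 hh _ hA) ▸ hA)

/-- The bound, stated for every action. -/
def Bound (n : ℕ) : Prop :=
  ∀ (G Ω : Type) [Group G] [Finite G] [Fintype Ω] [DecidableEq Ω] [MulAction G Ω]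
    [IsPretransitive G Ω] (F : Finset Ω),
    Pro G F → F ≠ univ → Fintype.card Ω = n → 2 * F.card + 1 ≤ n

variable [Finite G]

/-- The bound inside one orbit of a pointwise stabiliser. -/
theorem orb_bound (IH : ∀ m < Fintype.card Ω, Bound m) (hP : Pro G F) {A : Finset Ω} (hA : A ⊆ F)
    (hA1 : A.Nonempty) {x : Ω} (hx : x ∉ A) (hS : ∃ y ∈ orb G A x, y ∉ F) :
    2 * (orb G A x ∩ F).card + 1 ≤ (orb G A x).card := by
  classical
  haveI : Fintype (orbit (fixer G A) x) := Fintype.ofFinite _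
  set Δ := orbit (fixer G A) x
  have hmem : ∀ y, y ∈ Δ ↔ y ∈ orb G A x := fun y => by
    simp only [mem_orb, Δ, MulAction.mem_orbit_iff]
    exact ⟨fun ⟨h, e⟩ => ⟨h, h.2, e⟩, fun ⟨h, hh, e⟩ => ⟨⟨h, hh⟩, e⟩⟩
  set F' : Finset Δ := F.subtype (· ∈ Δ)
  have hm' : ∀ y : Δ, y ∈ F' ↔ (y : Ω) ∈ F := fun y => Finset.mem_subtype
  have hsm : ∀ (h : fixer G A) (y : Δ), y ∈ h • F' ↔ (y : Ω) ∈ (h : G) • F := fun h y => by
    rw [← inv_smul_mem_iff, hm', ← inv_smul_mem_iff]
    rfl
  have hP' : Pro (fixer G A) F' := by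
    intro h
    obtain ⟨w, hw, hwF⟩ := hP (h : G)
    have hKA : fixer G F ≤ fixer G A := fixer_mono hA
    have hK'A : fixer G ((h : G) • F) ≤ fixer G A := fixer_mono fun a ha => by
      rw [← inv_smul_mem_iff, mem_fixer.1 (inv_mem h.2) a ha]
      exact hA ha
    have hwA : w ∈ fixer G A := sup_le hKA hK'A hw
    refine ⟨⟨w, hwA⟩, ?_, ?_⟩
    · have e1 : (fixer G F).subgroupOf (fixer G A) ≤ fixer (fixer G A) F' := fun k hk =>
        mem_fixer.2 fun a ha => Subtype.ext (mem_fixer.1 (Subgroup.mem_subgroupOf.1 hk) _ ((hm' a).1 ha))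
      have e2 : (fixer G ((h : G) • F)).subgroupOf (fixer G A) ≤ fixer (fixer G A) (h • F') := fun k hk =>
        mem_fixer.2 fun a ha => Subtype.ext (mem_fixer.1 (Subgroup.mem_subgroupOf.1 hk) _ ((hsm h a).1 ha))
      refine sup_le_sup e1 e2 ?_
      rw [← Subgroup.subgroupOf_sup hKA hK'A]
      exact hw
    · ext y
      rw [hsm, hsm]
      show (y : Ω) ∈ w • F ↔ _
      rw [hwF]
  have hne : F' ≠ univ := fun e => by
    obtain ⟨y, hy, hyF⟩ := hS
    exact hyF ((hm' ⟨y, (hmem y).2 hy⟩).1 (e ▸ mem_univ _))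
  have hcard : Fintype.card Δ = (orb G A x).card := by
    rw [← Fintype.card_coe]
    exact Fintype.card_congr (Equiv.subtypeEquivRight hmem)
  have hlt : Fintype.card Δ < Fintype.card Ω := by
    obtain ⟨a, ha⟩ := hA1
    rw [hcard]
    exact card_lt_univ_of_notMem (x := a) fun h => not_mem_orb hx h ha
  have := IH _ hlt (fixer G A) Δ F' hP' hne rfl
  rw [hcard] at this
  convert this using 3
  rw [Finset.card_subtype, ← Finset.filter_mem_eq_inter]
  refine congrArg Finset.card ?_
  ext y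
  simp [hmem, and_comm]

/-- The bound on a union of orbits that all meet the moved points. -/
theorem union_bound (IH : ∀ m < Fintype.card Ω, Bound m) (hP : Pro G F) {A : Finset Ω}
    (hA : A ⊆ F) (hA1 : A.Nonempty) :
    ∀ R : Finset Ω, (∀ h ∈ fixer G A, ∀ z ∈ R, h • z ∈ R) → Disjoint R A →
      (∀ z ∈ R, ∃ y ∈ orb G A z, y ∉ F) → R.Nonempty → 2 * (R ∩ F).card + 1 ≤ R.card := by
  intro R
  induction R using Finset.strongInduction with
  | _ R ih =>
    intro hinv hdis hS ⟨x, hx⟩
    have hxA : x ∉ A := fun h => disjoint_left.1 hdis hx h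
    have hsub : orb G A x ⊆ R := orb_subset hx hinv
    have h1 := orb_bound IH hP hA hA1 hxA (hS x hx)
    set R' := R \ orb G A x
    have hcR : R.card = (orb G A x).card + R'.card := by
      rw [← card_sdiff_add_card_eq_card hsub, add_comm]
    have hcF : (R ∩ F).card = (orb G A x ∩ F).card + (R' ∩ F).card := by
      rw [← card_union_of_disjoint (disjoint_left.2 fun y hy hy' =>
        (mem_sdiff.1 (mem_inter.1 hy').1).2 (mem_inter.1 hy).1), ← union_inter_distrib_right,
        union_sdiff_of_subset hsub]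
    by_cases hne : R'.Nonempty
    · have h2 := ih R' (sdiff_ssubset hsub ⟨x, self_mem_orb A x⟩) (fun h hh z hz => by
        rw [mem_sdiff] at hz ⊢
        refine ⟨hinv h hh z hz.1, fun hm => hz.2 ?_⟩
        simpa using smul_mem_orb (inv_mem hh) hm) (hdis.mono_left sdiff_subset)
        (fun z hz => hS z (mem_sdiff.1 hz).1) hne
      omega
    · rw [not_nonempty_iff_eq_empty.1 hne, empty_inter, card_empty] at hcF
      rw [not_nonempty_iff_eq_empty.1 hne, card_empty] at hcR
      omega

/-- The number of translates through a finite set, counted in the group. -/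
noncomputable def through (G : Type) [Group G] [Finite G] {Ω : Type} [DecidableEq Ω]
    [MulAction G Ω] (F A : Finset Ω) : ℕ :=
  Nat.card {g : G // A ⊆ g • F}

theorem through_smul (h : G) (A : Finset Ω) : through G F (h • A) = through G F A := by
  refine Nat.card_congr ((Equiv.mulLeft h⁻¹).subtypeEquiv fun g => ?_)
  rw [Equiv.coe_mulLeft, mul_smul, ← smul_finset_subset_smul_finset_iff (a := h⁻¹),
    inv_smul_smul]

theorem through_le {A B : Finset Ω} (h : ∀ g : G, A ⊆ g • F → B ⊆ g • F) :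
    through G F A ≤ through G F B :=
  Nat.card_le_card_of_injective (fun g => ⟨g.1, h g.1 g.2⟩) fun a b e => by
    simpa [Subtype.ext_iff] using e

theorem through_eq {A B : Finset Ω} (h : ∀ g : G, A ⊆ g • F → B ⊆ g • F)
    (hc : through G F B ≤ through G F A) (g : G) (hg : B ⊆ g • F) : A ⊆ g • F := by
  let f : {g : G // A ⊆ g • F} → {g : G // B ⊆ g • F} := fun g => ⟨g.1, h g.1 g.2⟩
  have hf : Function.Injective f := fun a b e => by simpa [f, Subtype.ext_iff] using e
  obtain ⟨⟨g', hg'⟩, e⟩ := (hf.bijective_of_nat_card_le hc).2 ⟨g, hg⟩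
  obtain rfl : g' = g := congrArg Subtype.val e
  exact hg'

end Cfsg.Agent.Perm.Pronormal
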