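import Mathlib

/-!
# Two counting facts

The intersection numbers of a Steiner system `S(t, t+1, v)` with a subsystem, and the bound that a
two-valued inner product puts on a sum of vectors with zero total.
-/

set_option autoImplicit false
set_option linter.unusedSectionVars false
set_option linter.unusedDecidableInType false

namespace Cfsg.Agent.Perm.Pronormal

open Finset
open scoped Nat

/-- A Steiner system `S(t, t+1, v)` on `P`, given by its line map. -/
structure Steiner {α : Type*} [DecidableEq α] (t : ℕ) (P : Finset α)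
    (ℓ : Finset α → Finset α) : Prop where
  subset : ∀ T, T ⊆ P → T.card = t → T ⊆ ℓ T ∧ ℓ T ⊆ P
  card : ∀ T, T ⊆ P → T.card = t → (ℓ T).card = t + 1
  uniq : ∀ T T', T ⊆ P → T.card = t → T' ⊆ ℓ T → T'.card = t → ℓ T' = ℓ T

variable {α : Type*} [DecidableEq α] {t : ℕ} {P J : Finset α} {ℓ : Finset α → Finset α}

/-- The number of lines with `j` points in `J`. -/
def interNum (t : ℕ) (P J : Finset α) (ℓ : Finset α → Finset α) (j : ℕ) : ℕ :=
  (((powersetCard t P).image ℓ).filter fun B => (B ∩ J).card = j).card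

theorem card_powerset_inter (hJ : J ⊆ P) (j : ℕ) (hj : j ≤ t) :
    ((powersetCard t P).filter fun T => (T ∩ J).card = j).card =
      J.card.choose j * (P \ J).card.choose (t - j) := by
  rw [← card_powersetCard, ← card_powersetCard, ← card_product]
  refine card_bij' (fun T _ => (T ∩ J, T \ J)) (fun q _ => q.1 ∪ q.2) ?_ ?_ ?_ ?_
  · intro T hT
    simp only [mem_filter, mem_powersetCard] at hT
    have h := card_sdiff_add_card_inter T J
    exact mem_product.2 ⟨mem_powersetCard.2 ⟨inter_subset_right, hT.2⟩,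
      mem_powersetCard.2 ⟨sdiff_subset_sdiff hT.1.1 (Subset.refl _), (by omega : (T \ J).card = t - j)⟩⟩
  · intro q hq
    simp only [mem_product, mem_powersetCard] at hq
    obtain ⟨⟨h1, h2⟩, h3, h4⟩ := hq
    have hd : Disjoint q.1 q.2 := disjoint_left.2 fun x hx hx' => (mem_sdiff.1 (h3 hx')).2 (h1 hx)
    refine mem_filter.2 ⟨mem_powersetCard.2 ⟨union_subset (h1.trans hJ)
      (h3.trans sdiff_subset), ?_⟩, ?_⟩
    · rw [card_union_of_disjoint hd, h2, h4]; omega
    · rw [union_inter_distrib_right, inter_eq_left.2 h1, show q.2 ∩ J = ∅ from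
        eq_empty_iff_forall_notMem.2 fun x hx => (mem_sdiff.1 (h3 (mem_inter.1 hx).1)).2
          (mem_inter.1 hx).2, union_empty, h2]
  · intro T _
    ext x
    simp only [mem_union, mem_inter, mem_sdiff]
    tauto
  · intro q hq
    simp only [mem_product, mem_powersetCard] at hq
    obtain ⟨⟨h1, -⟩, h3, -⟩ := hq
    refine Prod.ext ?_ ?_ <;> (ext x; simp only [mem_union, mem_inter, mem_sdiff]; constructor)
    · rintro ⟨h | h, hx⟩
      exacts [h, absurd hx (mem_sdiff.1 (h3 h)).2]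
    · exact fun h => ⟨Or.inl h, h1 h⟩
    · rintro ⟨h | h, hx⟩
      exacts [absurd (h1 h) hx, h]
    · exact fun h => ⟨Or.inr h, (mem_sdiff.1 (h3 h)).2⟩

theorem card_line_filter {B : Finset α} (hB : B.card = t + 1) (j : ℕ) :
    ((powersetCard t B).filter fun T => (T ∩ J).card = j).card =
      (if (B ∩ J).card = j then t + 1 - j else 0) + if (B ∩ J).card = j + 1 then j + 1 else 0 := by
  have e : powersetCard t B = B.image fun z => B.erase z := by
    ext T
    simp only [mem_powersetCard, mem_image]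
    constructor
    · rintro ⟨hT, hc⟩
      obtain ⟨z, hz⟩ := card_eq_one.1 (show (B \ T).card = 1 by
        have := card_sdiff_add_card_eq_card hT; omega)
      refine ⟨z, (mem_sdiff.1 (hz ▸ mem_singleton_self z)).1, ?_⟩
      rw [← sdiff_singleton_eq_erase, ← hz, Finset.sdiff_sdiff_eq_self hT]
    · rintro ⟨z, hz, rfl⟩
      exact ⟨erase_subset _ _, by rw [card_erase_of_mem hz, hB]; rfl⟩
  have hinj : Set.InjOn (fun z => B.erase z) (B : Set α) := fun x hx y _ h => by
    by_contra hne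
    have : x ∈ B.erase y := mem_erase.2 ⟨hne, hx⟩
    simp only at h
    rw [← h] at this
    exact notMem_erase x B this
  rw [e, filter_image, card_image_of_injOn (hinj.mono fun x hx => (mem_filter.1 hx).1)]
  set b := (B ∩ J).card with hb
  have hb1 : ∀ z ∈ B, ((B.erase z) ∩ J).card = if z ∈ J then b - 1 else b := fun z hz => by
    rw [erase_inter]
    by_cases h : z ∈ J
    · rw [if_pos h, card_erase_of_mem (mem_inter.2 ⟨hz, h⟩)]
    · rw [if_neg h, erase_eq_of_notMem fun h' => h (mem_inter.1 h').2]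
  have hsd := card_sdiff_add_card_inter B J
  have hle : b ≤ t + 1 := by omega
  by_cases h1 : b = j
  · rw [if_pos h1, if_neg (by omega)]
    rw [show (B.filter fun z => ((B.erase z) ∩ J).card = j) = B \ J from ?_]
    · omega
    ext z
    simp only [mem_filter, mem_sdiff]
    constructor
    · rintro ⟨hz, h⟩
      refine ⟨hz, fun hzJ => ?_⟩
      rw [hb1 z hz, if_pos hzJ] at h
      have : 0 < b := card_pos.2 ⟨z, mem_inter.2 ⟨hz, hzJ⟩⟩
      omega
    · rintro ⟨hz, h⟩
      exact ⟨hz, by rw [hb1 z hz, if_neg h, h1]⟩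
  · rw [if_neg h1]
    by_cases h2 : b = j + 1
    · rw [if_pos h2]
      rw [show (B.filter fun z => ((B.erase z) ∩ J).card = j) = B ∩ J from ?_]
      · omega
      ext z
      simp only [mem_filter, mem_inter]
      constructor
      · rintro ⟨hz, h⟩
        refine ⟨hz, ?_⟩
        by_contra hzJ
        rw [hb1 z hz, if_neg hzJ] at h
        exact h1 h
      · rintro ⟨hz, h⟩
        exact ⟨hz, by rw [hb1 z hz, if_pos h, h2]; rfl⟩
    · rw [if_neg h2, add_zero, card_eq_zero, filter_eq_empty_iff]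
      intro z hz h
      rw [hb1 z hz] at h
      split_ifs at h with hzJ
      · have : 0 < b := card_pos.2 ⟨z, mem_inter.2 ⟨hz, hzJ⟩⟩
        omega
      · exact h1 h

theorem interNum_rec (hS : Steiner t P ℓ) (hJ : J ⊆ P) {j : ℕ} (hj : j ≤ t) :
    J.card.choose j * (P \ J).card.choose (t - j) =
      (t + 1 - j) * interNum t P J ℓ j + (j + 1) * interNum t P J ℓ (j + 1) := by
  rw [← card_powerset_inter hJ j hj]
  have hfib : ∀ B ∈ (powersetCard t P).image ℓ,
      ((((powersetCard t P).filter fun T => (T ∩ J).card = j)).filter fun T => ℓ T = B).card =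
      (if (B ∩ J).card = j then t + 1 - j else 0) + if (B ∩ J).card = j + 1 then j + 1 else 0 := by
    intro B hB
    obtain ⟨T₀, hT₀, rfl⟩ := mem_image.1 hB
    rw [mem_powersetCard] at hT₀
    rw [← card_line_filter (hS.card _ hT₀.1 hT₀.2)]
    refine congrArg Finset.card ?_
    ext T
    simp only [mem_filter, mem_powersetCard]
    constructor
    · rintro ⟨⟨⟨hT, hc⟩, h⟩, e⟩
      exact ⟨⟨e ▸ (hS.subset T hT hc).1, hc⟩, h⟩
    · rintro ⟨⟨hT, hc⟩, h⟩
      exact ⟨⟨⟨hT.trans (hS.subset _ hT₀.1 hT₀.2).2, hc⟩, h⟩, hS.uniq _ _ hT₀.1 hT₀.2 hT hc⟩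
  rw [card_eq_sum_card_fiberwise (f := ℓ) (t := (powersetCard t P).image ℓ)
    fun T hT => mem_image_of_mem ℓ (mem_filter.1 hT).1, sum_congr rfl hfib, sum_add_distrib]
  unfold interNum
  simp only [← sum_filter, sum_const, smul_eq_mul]
  ring

theorem interNum_top (hcl : ∀ T ⊆ J, T.card = t → ℓ T ⊆ J) (hS : Steiner t P ℓ) :
    interNum t P J ℓ t = 0 := by
  refine card_eq_zero.2 (filter_eq_empty_iff.2 fun B hB h => ?_)
  obtain ⟨T₀, hT₀, rfl⟩ := mem_image.1 hB
  rw [mem_powersetCard] at hT₀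
  have e := hS.uniq _ _ hT₀.1 hT₀.2 inter_subset_left h
  have hsub := hcl _ inter_subset_right h
  rw [e] at hsub
  rw [inter_eq_left.2 hsub, hS.card _ hT₀.1 hT₀.2] at h
  omega

theorem cast_descFactorial_succ (a j : ℕ) :
    ((a.descFactorial (j + 1) : ℕ) : ℤ) = ((a : ℤ) - j) * (a.descFactorial j : ℤ) := by
  rw [Nat.descFactorial_succ]
  rcases Nat.lt_or_ge a j with h | h
  · rw [Nat.descFactorial_eq_zero_iff_lt.2 h]; simp
  · rw [Nat.cast_mul, Nat.cast_sub h]

/-- The lines missing a subsystem. -/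
theorem interNum_zero (hS : Steiner t P ℓ) (hJ : J ⊆ P) (hcl : ∀ T ⊆ J, T.card = t → ℓ T ⊆ J) :
    ((J.card : ℤ) + (P \ J).card - t) * ((t + 1)! * interNum t P J ℓ 0 : ℕ) =
      ((P \ J).card.descFactorial (t + 1) : ℤ) +
        (-1) ^ (t + 1) * (((P \ J).card : ℤ) * J.card.descFactorial t) := by
  set c := J.card with hc
  set w := (P \ J).card with hw
  set U : ℕ → ℕ := fun j => j ! * (t + 1 - j)! * interNum t P J ℓ j with hU
  have hrec : ∀ j ≤ t, U j + U (j + 1) = c.descFactorial j * w.descFactorial (t - j) := fun j hj => by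
    simp only [hU, Nat.descFactorial_eq_factorial_mul_choose]
    rw [show j ! * c.choose j * ((t - j)! * w.choose (t - j)) =
      j ! * (t - j)! * (c.choose j * w.choose (t - j)) by ring, interNum_rec hS hJ hj,
      show t + 1 - j = (t - j) + 1 by omega, show t + 1 - (j + 1) = t - j by omega,
      Nat.factorial_succ (t - j), Nat.factorial_succ j]
    ring
  set V : ℕ → ℤ := fun j => ((c : ℤ) + w - t) * U j -
    (c.descFactorial j : ℤ) * w.descFactorial (t + 1 - j) with hV
  have hstep : ∀ j ≤ t, V (j + 1) = -V j := fun j hj => by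
    have h1 : (U j : ℤ) + U (j + 1) = c.descFactorial j * w.descFactorial (t - j) := by
      exact_mod_cast hrec j hj
    simp only [hV]
    rw [show t + 1 - (j + 1) = t - j by omega, show t + 1 - j = (t - j) + 1 by omega,
      cast_descFactorial_succ, cast_descFactorial_succ]
    push_cast [Nat.cast_sub hj]
    linear_combination ((c : ℤ) + w - t) * h1
  have hpow : ∀ j ≤ t + 1, V j = (-1) ^ j * V 0 := fun j => by
    induction j with
    | zero => intro _; simp
    | succ j ih => intro hj; rw [hstep j (by omega), ih (by omega), pow_succ]; ring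
  have h1 := hpow (t + 1) le_rfl
  have hU1 : U (t + 1) = c.descFactorial t := by
    have := hrec t le_rfl
    simp only [hU, interNum_top hcl hS, mul_zero, zero_add, Nat.sub_self, Nat.descFactorial_zero,
      mul_one] at this
    simpa [hU] using this
  have hsq : ((-1 : ℤ) ^ (t + 1)) * (-1) ^ (t + 1) = 1 := by
    rw [← pow_add, Even.neg_one_pow ⟨t + 1, rfl⟩]
  simp only [hV, hU1, Nat.sub_self, Nat.descFactorial_zero, Nat.cast_one, mul_one,
    cast_descFactorial_succ, Nat.sub_zero] at h1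
  simp only [hU, Nat.factorial_zero, one_mul, Nat.sub_zero] at h1
  rw [cast_descFactorial_succ]
  linear_combination (-(-1 : ℤ) ^ (t + 1)) * h1 - ((((c : ℤ) + w - t) *
    (((t + 1)! * interNum t P J ℓ 0 : ℕ) : ℤ)) - ((w : ℤ) - t) * (w.descFactorial t : ℤ)) * hsq

theorem descFactorial_lt {a b t : ℕ} (hab : a < b) (ht : t ≤ b) (h1 : 1 ≤ t) :
    a.descFactorial t < b.descFactorial t := by
  obtain ⟨s, rfl⟩ : ∃ s, t = s + 1 := ⟨t - 1, by omega⟩
  obtain ⟨b', rfl⟩ : ∃ b', b = b' + 1 := ⟨b - 1, by omega⟩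
  refine lt_of_le_of_lt (Nat.descFactorial_le _ (show a ≤ b' by omega)) ?_
  rw [Nat.descFactorial_succ, Nat.succ_descFactorial_succ]
  exact Nat.mul_lt_mul_of_pos_right (by omega) (Nat.pos_of_ne_zero fun h =>
    absurd (Nat.descFactorial_eq_zero_iff_lt.1 h) (by omega))

/-- A proper subsystem of a Steiner system `S(t, t+1, v)`, `t` even, has at most half the points. -/
theorem card_le_compl_of_even (hS : Steiner t P ℓ) (hJ : J ⊆ P)
    (hcl : ∀ T ⊆ J, T.card = t → ℓ T ⊆ J) (ht : Even t) (ht1 : 1 ≤ t) (htc : t ≤ J.card)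
    (hw : 1 ≤ (P \ J).card) : J.card + 1 ≤ (P \ J).card := by
  by_contra hlt
  have h := interNum_zero hS hJ hcl
  rw [Odd.neg_one_pow ht.add_one, neg_one_mul] at h
  obtain ⟨w', hw'⟩ : ∃ w', (P \ J).card = w' + 1 := ⟨(P \ J).card - 1, by omega⟩
  have hd := descFactorial_lt (a := w') (b := J.card) (t := t) (by omega) htc ht1
  rw [hw', Nat.succ_descFactorial_succ] at h
  have hd' : (w'.descFactorial t : ℤ) < (J.card.descFactorial t : ℤ) := by exact_mod_cast hd
  have h0 : 0 ≤ ((J.card : ℤ) + ((w' + 1 : ℕ) : ℤ) - t) * ((t + 1)! * interNum t P J ℓ 0 : ℕ) :=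
    mul_nonneg (by push_cast; omega) (by positivity)
  rw [h] at h0
  push_cast at h0
  nlinarith

/-- For odd `t` some line misses a subsystem. -/
theorem exists_disjoint_line (hS : Steiner t P ℓ) (hJ : J ⊆ P)
    (hcl : ∀ T ⊆ J, T.card = t → ℓ T ⊆ J) (ht : Odd t) (htc : t ≤ J.card)
    (hw : 1 ≤ (P \ J).card) : ∃ T ⊆ P, T.card = t ∧ Disjoint (ℓ T) J := by
  by_contra hno
  push Not at hno
  have h := interNum_zero hS hJ hcl
  have h0 : interNum t P J ℓ 0 = 0 := card_eq_zero.2 (filter_eq_empty_iff.2 fun B hB e => by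
    obtain ⟨T, hT, rfl⟩ := mem_image.1 hB
    rw [mem_powersetCard] at hT
    exact hno T hT.1 hT.2 (disjoint_iff_inter_eq_empty.2 (card_eq_zero.1 e)))
  rw [h0, mul_zero, Nat.cast_zero, mul_zero, Even.neg_one_pow ht.add_one, one_mul] at h
  have : (0 : ℤ) < (J.card.descFactorial t : ℤ) := by
    exact_mod_cast Nat.pos_of_ne_zero fun h => absurd (Nat.descFactorial_eq_zero_iff_lt.1 h) (by omega)
  have hw' : (0 : ℤ) < ((P \ J).card : ℤ) := by exact_mod_cast hw
  have h2 := Int.natCast_nonneg ((P \ J).card.descFactorial (t + 1))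
  nlinarith

/-- The bound on a sum of vectors of zero total with two-valued inner products. -/
theorem gram_bound {U Z : Type*} [DecidableEq U] (S O : Finset U) (C C₀ : Finset Z) (hC : C₀ ⊆ C)
    (χ : U → Z → ℚ) (hzero : ∀ z ∈ C, ∑ u ∈ S, χ u z = 0) {I0 I1 : ℚ}
    (hd : ∀ u ∈ S, ∑ z ∈ C, χ u z * χ u z = I0)
    (ho : ∀ u ∈ S, ∀ v ∈ S, u ≠ v → ∑ z ∈ C, χ u z * χ v z = I1)
    (hO : O ⊆ S) {u₀ : U} (hu₀ : u₀ ∈ O) (hconst : ∀ u ∈ O, ∀ z ∈ C₀, χ u z = χ u₀ z) :
    ((S.card : ℚ) - 1) * (O.card * ∑ z ∈ C₀, χ u₀ z * χ u₀ z) ≤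
      ((S.card : ℚ) - O.card) * I0 := by
  have hgram : ∀ O' : Finset U, O' ⊆ S → ∀ u ∈ O', ∑ v ∈ O', ∑ z ∈ C, χ u z * χ v z =
      I0 + ((O'.card : ℚ) - 1) * I1 := fun O' hO' u hu => by
    rw [← add_sum_erase _ _ hu, hd u (hO' hu), sum_congr rfl (fun v hv =>
      ho u (hO' hu) v (hO' (mem_of_mem_erase hv)) (ne_of_mem_erase hv).symm), sum_const,
      nsmul_eq_mul]
    have : ((O'.erase u).card : ℚ) + 1 = O'.card := by exact_mod_cast card_erase_add_one hu
    rw [← this]; ring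
  have hS0 : I0 + ((S.card : ℚ) - 1) * I1 = 0 := by
    rw [← hgram S subset_rfl u₀ (hO hu₀), sum_comm]
    exact sum_eq_zero fun z hz => by rw [← mul_sum, hzero z hz, mul_zero]
  have hsq : ∑ z ∈ C, (∑ u ∈ O, χ u z) ^ 2 = O.card * (I0 + ((O.card : ℚ) - 1) * I1) := by
    calc ∑ z ∈ C, (∑ u ∈ O, χ u z) ^ 2 = ∑ u ∈ O, ∑ v ∈ O, ∑ z ∈ C, χ u z * χ v z := by
          simp only [sq, sum_mul_sum]
          rw [sum_comm]
          exact sum_congr rfl fun u _ => sum_comm
      _ = _ := by rw [sum_congr rfl (hgram O hO), sum_const, nsmul_eq_mul]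
  have hge : (O.card : ℚ) ^ 2 * ∑ z ∈ C₀, χ u₀ z * χ u₀ z ≤ ∑ z ∈ C, (∑ u ∈ O, χ u z) ^ 2 := by
    calc (O.card : ℚ) ^ 2 * ∑ z ∈ C₀, χ u₀ z * χ u₀ z = ∑ z ∈ C₀, (∑ u ∈ O, χ u z) ^ 2 := by
          rw [mul_sum]
          refine sum_congr rfl fun z hz => ?_
          rw [sum_congr rfl (fun u hu => hconst u hu z hz), sum_const, nsmul_eq_mul]
          ring
      _ ≤ _ := sum_le_sum_of_subset_of_nonneg hC fun z _ _ => sq_nonneg _
  rw [hsq] at hge
  have hpos : (0 : ℚ) < O.card := by exact_mod_cast card_pos.2 ⟨u₀, hu₀⟩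
  have h1 : (O.card : ℚ) * ∑ z ∈ C₀, χ u₀ z * χ u₀ z ≤ I0 + ((O.card : ℚ) - 1) * I1 :=
    le_of_mul_le_mul_left (by rw [← mul_assoc, ← sq]; exact hge) hpos
  have hS1 : (1 : ℚ) ≤ S.card := by exact_mod_cast card_pos.2 ⟨u₀, hO hu₀⟩
  calc ((S.card : ℚ) - 1) * (O.card * ∑ z ∈ C₀, χ u₀ z * χ u₀ z)
      ≤ ((S.card : ℚ) - 1) * (I0 + ((O.card : ℚ) - 1) * I1) :=
        mul_le_mul_of_nonneg_left h1 (by linarith)
    _ = ((S.card : ℚ) - O.card) * I0 := by linear_combination ((O.card : ℚ) - 1) * hS0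

end Cfsg.Agent.Perm.Pronormal
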