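import Cfsg.Agent.Lib.Perm.Pronormal.Sets
import Cfsg.Agent.Lib.Perm.Pronormal.Count

/-!
# Pronormal fixed point sets: the Steiner case

If some orbit of the stabiliser of an `i`-subset of `F` lies inside `F`, the translates through an
`i`-set cut out the lines of a Steiner system `S(i, i+1, 2k)`, so that distinct translates share
at most half of their points, which triple transitivity forbids.
-/

set_option autoImplicit false
set_option linter.unusedSectionVars false
set_option linter.style.haveILetI false
set_option linter.unusedDecidableInType false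
set_option linter.unusedFintypeInType false

namespace Cfsg.Agent.Perm.Pronormal

open MulAction Finset
open scoped Pointwise

variable {G Ω : Type} [Group G] [Fintype Ω] [DecidableEq Ω] [MulAction G Ω] {F : Finset Ω} {i : ℕ}

/-- The intersection of the translates through `A`. -/
noncomputable def line (G : Type) [Group G] {Ω : Type} [Fintype Ω] [DecidableEq Ω] [MulAction G Ω]
    (F A : Finset Ω) : Finset Ω := by
  classical exact univ.filter fun y => ∀ g : G, A ⊆ g • F → y ∈ g • F

theorem mem_line {A : Finset Ω} {y : Ω} :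
    y ∈ line G F A ↔ ∀ g : G, A ⊆ g • F → y ∈ g • F := by simp [line]

theorem subset_line (A : Finset Ω) : A ⊆ line G F A := fun _ hy => mem_line.2 fun _ hg => hg hy

theorem line_subset {A : Finset Ω} {g : G} (hg : A ⊆ g • F) : line G F A ⊆ g • F :=
  fun _ hy => mem_line.1 hy g hg

theorem line_subset_self {A : Finset Ω} (hA : A ⊆ F) : line G F A ⊆ F := by
  simpa using line_subset (G := G) (g := 1) (F := F) (A := A) (by simpa using hA)

theorem smul_line (g : G) (A : Finset Ω) : g • line G F A = line G F (g • A) := by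
  ext y
  rw [← inv_smul_mem_iff, mem_line, mem_line]
  have e : ∀ (k : G) (z : Ω), g⁻¹ • z ∈ k • F ↔ z ∈ (g * k) • F := fun k z => by
    rw [mul_smul, inv_smul_mem_iff]
  have e' : ∀ (k : G), A ⊆ k • F ↔ g • A ⊆ (g * k) • F := fun k => by
    rw [mul_smul, smul_finset_subset_smul_finset_iff]
  constructor
  · intro h k hk
    have h1 := h (g⁻¹ * k) (by rwa [e', mul_inv_cancel_left])
    rwa [e, mul_inv_cancel_left] at h1
  · intro h k hk
    rw [e]
    exact h _ ((e' k).1 hk)

variable (hi : HT G Ω i) (hik : i < F.card)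
include hi hik

theorem card_line_eq {A B : Finset Ω} (hA : A.card = i) (hB : B.card = i) :
    (line G F A).card = (line G F B).card := by
  obtain ⟨g, rfl⟩ := exists_smul_set hi i le_rfl A B hA hB
  rw [← smul_line, card_smul_finset]

theorem line_uniq {A A' : Finset Ω} (hA : A.card = i) (hA' : A' ⊆ line G F A)
    (hc : A'.card = i) : line G F A' = line G F A := by
  refine eq_of_subset_of_card_le (fun y hy => mem_line.2 fun g hg => ?_)
    (le_of_eq (card_line_eq hi hik hA hc))
  exact mem_line.1 hy g (hA'.trans (line_subset hg))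

variable (hP : Pro G F) (hn : Fintype.card Ω = 2 * F.card)
include hP hn

theorem family_bound {p : Ω} (hp : p ∉ F) (𝒯 : Finset (Finset Ω))
    (h𝒯 : ∀ X ∈ 𝒯, X ⊆ F ∧ X.card + 1 = i)
    (hpair : ∀ X ∈ 𝒯, ∀ Y ∈ 𝒯, i ≤ (X ∩ Y).card + 2) {s : ℕ}
    (hs : ∀ A : Finset Ω, A.card = i → (line G F A).card = s) :
    𝒯.card * (s - i) + 1 ≤ F.card := by
  set M : Finset Ω → Finset Ω := fun X => line G F (insert p X) \ insert p F with hMdef
  have hcX : ∀ X ∈ 𝒯, (insert p X).card = i := fun X hX => by
    rw [card_insert_of_notMem fun h => hp ((h𝒯 X hX).1 h), (h𝒯 X hX).2]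
  have hinF : ∀ X ∈ 𝒯, (line G F (insert p X) ∩ F).card < i := fun X hX => by
    by_contra hge
    obtain ⟨A', hA', hc⟩ := exists_subset_card_eq (Nat.le_of_not_lt hge)
    have e := line_uniq hi hik (hcX X hX) (hA'.trans inter_subset_left) hc
    have : p ∈ line G F A' := e ▸ subset_line _ (mem_insert_self _ _)
    exact hp (line_subset_self (hA'.trans inter_subset_right) this)
  have hM : ∀ X ∈ 𝒯, s - i ≤ (M X).card := fun X hX => by
    have h1 := hinF X hX
    have h2 : (line G F (insert p X) ∩ insert p F).card ≤ (line G F (insert p X) ∩ F).card + 1 := by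
      refine le_trans (card_le_card (fun y hy => ?_)) (card_insert_le p _)
      simp only [mem_inter, mem_insert] at hy ⊢
      tauto
    have h3 := card_sdiff_add_card_inter (line G F (insert p X)) (insert p F)
    rw [hs _ (hcX X hX)] at h3
    simp only [hMdef]
    omega
  have hdis : ∀ X ∈ 𝒯, ∀ Y ∈ 𝒯, X ≠ Y → Disjoint (M X) (M Y) := fun X hX Y hY hne => by
    refine disjoint_left.2 fun y hy hy' => ?_
    simp only [hMdef, mem_sdiff, mem_insert, not_or] at hy hy'
    have hi2 : 1 ≤ i := by have := (h𝒯 X hX).2; omega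
    have hnot : ¬ X ⊆ Y := fun h => hne (eq_of_subset_of_card_le h (by
      have := (h𝒯 X hX).2; have := (h𝒯 Y hY).2; omega))
    have hlt : (X ∩ Y).card < X.card := card_lt_card ⟨inter_subset_left, fun h => hnot fun z hz =>
      (mem_inter.1 (h hz)).2⟩
    set B := insert y (insert p (X ∩ Y))
    have hBc : B.card = i := by
      have := hpair X hX Y hY
      have := (h𝒯 X hX).2
      rw [card_insert_of_notMem, card_insert_of_notMem fun h => hp ((h𝒯 X hX).1 (mem_inter.1 h).1)]
      · omega
      · simp only [mem_insert, mem_inter, not_or]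
        exact ⟨hy.2.1, fun h => hy.2.2 ((h𝒯 X hX).1 h.1)⟩
    have hsub : ∀ Z ∈ 𝒯, X ∩ Y ⊆ Z → y ∈ line G F (insert p Z) → B ⊆ line G F (insert p Z) :=
      fun Z _ h hz => insert_subset hz (insert_subset (subset_line _ (mem_insert_self _ _))
        ((h.trans (subset_insert p Z)).trans (subset_line _)))
    have eX := line_uniq hi hik (hcX X hX) (hsub X hX inter_subset_left hy.1) hBc
    have eY := line_uniq hi hik (hcX Y hY) (hsub Y hY inter_subset_right hy'.1) hBc
    have hU : i ≤ (line G F (insert p X) ∩ F).card := by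
      refine le_trans ?_ (card_le_card (show X ∪ Y ⊆ line G F (insert p X) ∩ F from ?_))
      · have := card_union_add_card_inter X Y
        have := (h𝒯 X hX).2; have := (h𝒯 Y hY).2
        omega
      · refine subset_inter (union_subset ?_ ?_) (union_subset (h𝒯 X hX).1 (h𝒯 Y hY).1)
        · exact (subset_insert p X).trans (subset_line _)
        · rw [← eX, eY]; exact (subset_insert p Y).trans (subset_line _)
    exact absurd (hinF X hX) (by omega)
  have h1 : 𝒯.card * (s - i) ≤ (𝒯.biUnion M).card := by
    rw [card_biUnion hdis, ← smul_eq_mul, ← sum_const]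
    exact sum_le_sum hM
  have h2 : (𝒯.biUnion M).card ≤ (insert p F)ᶜ.card := card_le_card fun y hy => by
    obtain ⟨X, -, hy⟩ := mem_biUnion.1 hy
    exact mem_compl.2 (mem_sdiff.1 hy).2
  rw [card_compl, card_insert_of_notMem hp, hn] at h2
  omega

variable {A₀ : Finset Ω} (hA₀ : A₀ ⊆ F) (hA₀c : A₀.card = i) {z : Ω} (hz : z ∉ A₀)
  (horb : orb G A₀ z ⊆ F) (hi2 : 2 ≤ i)
include hA₀ hA₀c hz horb hi2

theorem card_line {A : Finset Ω} (hA : A.card = i) : (line G F A).card = i + 1 := by
  set s := (line G F A₀).card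
  have hs : ∀ A : Finset Ω, A.card = i → (line G F A).card = s :=
    fun A hA => card_line_eq hi hik hA hA₀c
  rw [hs A hA]
  have hzL : z ∈ line G F A₀ := mem_line.2 fun g hg => by
    obtain ⟨w, hw, e⟩ := exists_fixer_smul hP hA₀ g hg
    rw [← e, ← inv_smul_mem_iff]
    exact horb (smul_mem_orb (inv_mem hw) (self_mem_orb _ _))
  have hlow : i + 1 ≤ s := by
    rw [← hA₀c, ← card_insert_of_notMem hz]
    exact card_le_card (insert_subset hzL (subset_line _))
  by_contra hne
  obtain ⟨p, hp⟩ : ∃ p, p ∈ Fᶜ := card_pos.1 (by rw [card_compl, hn]; omega)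
  rw [mem_compl] at hp
  have h1 := family_bound hi hik hP hn hp (powersetCard (i - 1) A₀) (fun X hX => by
    rw [mem_powersetCard] at hX
    exact ⟨hX.1.trans hA₀, by omega⟩) (fun X hX Y hY => by
    rw [mem_powersetCard] at hX hY
    have h1 := card_union_add_card_inter X Y
    have h2 := card_le_card (union_subset hX.1 hY.1)
    omega) hs
  rw [card_powersetCard, hA₀c, Nat.choose_symm (show 1 ≤ i by omega), Nat.choose_one_right] at h1
  obtain ⟨C, hC, hCc⟩ := exists_subset_card_eq (show i - 2 ≤ F.card by omega)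
  have h2 := family_bound hi hik hP hn hp ((F \ C).image fun u => insert u C) (fun X hX => by
    obtain ⟨u, hu, rfl⟩ := mem_image.1 hX
    rw [mem_sdiff] at hu
    exact ⟨insert_subset hu.1 hC, by rw [card_insert_of_notMem hu.2]; omega⟩) (fun X hX Y hY => by
    obtain ⟨u, -, rfl⟩ := mem_image.1 hX
    obtain ⟨v, -, rfl⟩ := mem_image.1 hY
    have := card_le_card (show C ⊆ insert u C ∩ insert v C from
      subset_inter (subset_insert _ _) (subset_insert _ _))
    omega) hs
  rw [card_image_of_injOn (fun u hu v _ e => by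
    have : u ∈ insert v C := e ▸ mem_insert_self u C
    exact (mem_insert.1 this).resolve_right (mem_sdiff.1 hu).2)] at h2
  have h3 := card_sdiff_add_card_eq_card hC
  have h4 : i * 2 ≤ i * (s - i) := Nat.mul_le_mul_left _ (by omega)
  have h5 : (F \ C).card * 2 ≤ (F \ C).card * (s - i) := Nat.mul_le_mul_left _ (by omega)
  omega

theorem odd_level : Odd i := by
  obtain ⟨D, -, hD⟩ := exists_subset_card_eq (show i - 1 ≤ F.card by omega)
  have hins : ∀ q ∈ Dᶜ, (insert q D).card = i := fun q hq => by
    rw [card_insert_of_notMem (mem_compl.1 hq)]; omega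
  set φ : Ω → Finset Ω := fun q => line G F (insert q D) \ D with hφ
  have hD' : ∀ q, D ⊆ line G F (insert q D) := fun q => (subset_insert q D).trans (subset_line _)
  have hcard : ∀ q ∈ Dᶜ, (φ q).card = 2 := fun q hq => by
    have := card_sdiff_add_card_eq_card (hD' q)
    rw [card_line hi hik hP hn hA₀ hA₀c hz horb hi2 (hins q hq)] at this
    simp only [hφ]
    omega
  have hfib : ∀ B ∈ Dᶜ.image φ, (Dᶜ.filter fun q => φ q = B).card = 2 := fun B hB => by
    obtain ⟨q₀, hq₀, rfl⟩ := mem_image.1 hB
    rw [← hcard q₀ hq₀]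
    refine congrArg Finset.card ?_
    ext q
    simp only [mem_filter]
    constructor
    · rintro ⟨hq, e⟩
      rw [← e]
      exact mem_sdiff.2 ⟨subset_line _ (mem_insert_self _ _), mem_compl.1 hq⟩
    · intro hq
      have hq' := mem_sdiff.1 hq
      refine ⟨mem_compl.2 hq'.2, ?_⟩
      simp only [hφ]
      rw [line_uniq hi hik (hins q₀ hq₀) (insert_subset hq'.1 (hD' q₀)) (hins q (mem_compl.2 hq'.2))]
  have := card_eq_sum_card_image φ Dᶜ
  rw [sum_const_nat hfib, card_compl, hn, hD] at this
  rw [Nat.odd_iff]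
  omega

theorem inter_le_half_of_le {g : G} (hg : g • F ≠ F) (hc : i ≤ (F ∩ g • F).card) :
    2 * (F ∩ g • F).card ≤ F.card := by
  obtain ⟨a, ha⟩ := card_pos.1 (show 0 < (F ∩ g • F).card by omega)
  have haF := (mem_inter.1 ha).1
  have hins : ∀ T : Finset Ω, T ⊆ F.erase a → T.card = i - 1 →
      (insert a T).card = i ∧ insert a T ⊆ F := fun T hT hc => by
    rw [card_insert_of_notMem fun h => notMem_erase a F (hT h)]
    exact ⟨by omega, insert_subset haF (hT.trans (erase_subset _ _))⟩
  have hS : Steiner (i - 1) (F.erase a) (fun T => (line G F (insert a T)).erase a) := {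
    subset := fun T hT hc => by
      refine ⟨fun y hy => mem_erase.2 ⟨?_, subset_line _ (mem_insert_of_mem hy)⟩,
        erase_subset_erase a (line_subset_self (hins T hT hc).2)⟩
      exact fun e => notMem_erase a F (e ▸ hT hy)
    card := fun T hT hc => by
      rw [card_erase_of_mem (subset_line _ (mem_insert_self _ _)),
        card_line hi hik hP hn hA₀ hA₀c hz horb hi2 (hins T hT hc).1]
      omega
    uniq := fun T T' hT hc hT' hc' => by
      have hT'a : a ∉ T' := fun h => notMem_erase a _ (hT' h)
      show (line G F (insert a T')).erase a = (line G F (insert a T)).erase a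
      rw [line_uniq hi hik (hins T hT hc).1 (insert_subset (subset_line _ (mem_insert_self _ _))
        (hT'.trans (erase_subset _ _))) (by rw [card_insert_of_notMem hT'a, hc']; omega)] }
  have hJ : (F ∩ g • F).erase a ⊆ F.erase a := erase_subset_erase a inter_subset_left
  have hcl : ∀ T ⊆ (F ∩ g • F).erase a, T.card = i - 1 →
      (line G F (insert a T)).erase a ⊆ (F ∩ g • F).erase a := fun T hT _ => by
    refine erase_subset_erase a (subset_inter (line_subset_self ?_) (line_subset ?_))
    · exact insert_subset haF fun y hy => (mem_inter.1 (erase_subset _ _ (hT hy))).1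
    · exact insert_subset (mem_inter.1 ha).2 fun y hy => (mem_inter.1 (erase_subset _ _ (hT hy))).2
  have e1 : F.erase a \ (F ∩ g • F).erase a = F \ g • F := by
    ext y
    simp only [mem_sdiff, mem_erase, mem_inter]
    refine ⟨fun ⟨⟨h1, h2⟩, h3⟩ => ⟨h2, fun h => h3 ⟨h1, h2, h⟩⟩, fun ⟨h1, h2⟩ => ?_⟩
    exact ⟨⟨fun e => h2 (e ▸ (mem_inter.1 ha).2), h1⟩, fun h => h2 h.2.2⟩
  have e2 := card_sdiff_add_card_inter F (g • F)
  have e3 := card_erase_of_mem ha
  have hpos : 1 ≤ (F \ g • F).card := by
    by_contra h0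
    have : F ⊆ g • F := by
      intro y hy
      by_contra h
      exact h0 (card_pos.2 ⟨y, mem_sdiff.2 ⟨hy, h⟩⟩)
    exact hg (eq_of_subset_of_card_le this (le_of_eq (card_smul_finset _ _))).symm
  have hodd := odd_level hi hik hP hn hA₀ hA₀c hz horb hi2
  have := card_le_compl_of_even hS hJ hcl (by rw [Nat.odd_iff] at hodd; rw [Nat.even_iff]; omega)
    (by omega) (by omega) (by rw [e1]; exact hpos)
  rw [e1] at this
  omega

theorem lines_false [Finite G] : False := by
  haveI := Fintype.ofFinite G
  have hFne : F.Nonempty := card_pos.1 (by omega)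
  have hodd := odd_level hi hik hP hn hA₀ hA₀c hz horb hi2
  obtain ⟨g, hg, hlarge⟩ := exists_large_inter hi (by rw [Nat.odd_iff] at hodd; omega) hP hFne
    (by omega) hn
  by_cases hc : i ≤ (F ∩ g • F).card
  · have := inter_le_half_of_le hi hik hP hn hA₀ hA₀c hz horb hi2 hg hc
    omega
  have hall : ∀ g' : G, A₀ ⊆ g' • F → g' • F = F := fun g' hg' => by
    by_contra hne
    have h1 : i ≤ (F ∩ g' • F).card := hA₀c ▸ card_le_card (subset_inter hA₀ hg')
    have := inter_le_half_of_le hi hik hP hn hA₀ hA₀c hz horb hi2 hne h1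
    omega
  have hF : line G F A₀ = F := subset_antisymm (line_subset_self hA₀)
    fun y hy => mem_line.2 fun g' hg' => (hall g' hg').symm ▸ hy
  have hk : F.card = i + 1 := by
    rw [← hF]; exact card_line hi hik hP hn hA₀ hA₀c hz horb hi2 hA₀c
  have hS : Steiner i univ (line G F) := {
    subset := fun T _ _ => ⟨subset_line T, subset_univ _⟩
    card := fun T _ hc => card_line hi hik hP hn hA₀ hA₀c hz horb hi2 hc
    uniq := fun T T' _ hc hT' hc' => line_uniq hi hik hc hT' hc' }
  obtain ⟨T, -, hT, hd⟩ := exists_disjoint_line hS (subset_univ F)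
    (fun T hT _ => line_subset_self hT) hodd (by omega) (by
      rw [← compl_eq_univ_sdiff, card_compl, hn]; omega)
  obtain ⟨g', hg'⟩ := exists_through hi (le_of_lt hik) (le_of_eq hT)
  have hLc := card_line hi hik hP hn hA₀ hA₀c hz horb hi2 hT
  have e1 : line G F T = g' • F := eq_of_subset_of_card_le (line_subset hg') (by
    rw [card_smul_finset, hLc, hk])
  refine compl_ne_smul hP hFne g' (eq_of_subset_of_card_le ?_ ?_)
  · intro y hy
    rw [← e1] at hy
    exact mem_compl.2 (disjoint_left.1 hd hy)
  · rw [card_compl, card_smul_finset, hn]; omega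

end Cfsg.Agent.Perm.Pronormal
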