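import Cfsg.Agent.Lib.Perm.Pronormal.Sets
import Cfsg.Agent.Lib.Perm.Pronormal.Count

/-!
# Pronormal fixed point sets: the split case

The stabiliser of an `i`-subset of `F` has at least two orbits on the other points, each meeting
the moved points. The sum of suitable vectors over an orbit of the stabiliser of `F` is then too
long for the inner products that `i`-fold transitivity allows.
-/

set_option autoImplicit false
set_option linter.unusedSectionVars false
set_option linter.style.haveILetI false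
set_option linter.unusedDecidableInType false
set_option linter.unusedFintypeInType false

namespace Cfsg.Agent.Perm.Pronormal

open MulAction Finset
open scoped Pointwise

variable {G Ω : Type} [Group G] [Finite G] [Fintype Ω] [DecidableEq Ω] [MulAction G Ω]
  {F : Finset Ω} {i : ℕ}

theorem smul_mem_compl {A : Finset Ω} {h : G} (hh : h ∈ fixer G A) {z : Ω} (hz : z ∈ Aᶜ) :
    h • z ∈ Aᶜ := by
  rw [mem_compl] at hz ⊢
  exact fun e => hz (smul_left_cancel h (mem_fixer.1 hh _ e) ▸ e)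

/-- The split data. -/
structure Split (G : Type) [Group G] {Ω : Type} [Fintype Ω] [DecidableEq Ω] [MulAction G Ω]
    (F A₀ : Finset Ω) (i : ℕ) (x : Ω) : Prop where
  sub : A₀ ⊆ F
  card : A₀.card = i
  notMem : x ∉ A₀
  meets : ∀ z ∉ A₀, ∃ y ∈ orb G A₀ z, y ∉ F
  split : (A₀ᶜ \ orb G A₀ x).Nonempty

variable {A₀ : Finset Ω} {x : Ω}

/-- What the induction gives in the split case. -/
theorem split_facts (IH : ∀ m < Fintype.card Ω, Bound m) (hP : Pro G F)
    (hn : Fintype.card Ω = 2 * F.card) (hi : HT G Ω i) (hik : i < F.card) (hi1 : 1 ≤ i)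
    (D : Split G F A₀ i x) :
    2 * (orb G A₀ x ∩ F).card + 1 ≤ (orb G A₀ x).card ∧
    2 * ((A₀ᶜ \ orb G A₀ x) ∩ F).card + 1 ≤ (A₀ᶜ \ orb G A₀ x).card ∧
    (orb G A₀ x).card + (A₀ᶜ \ orb G A₀ x).card + i = 2 * F.card ∧
    (orb G A₀ x ∩ F).card + ((A₀ᶜ \ orb G A₀ x) ∩ F).card + i = F.card ∧
    2 * (i + 1) ≤ F.card := by
  have hne : A₀.Nonempty := card_pos.1 (by rw [D.card]; omega)
  set Δ := orb G A₀ x
  set R := A₀ᶜ \ Δ
  have hΔ : Δ ⊆ A₀ᶜ := fun y hy => mem_compl.2 (not_mem_orb D.notMem hy)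
  have hinvR : ∀ h ∈ fixer G A₀, ∀ z ∈ R, h • z ∈ R := fun h hh z hz => by
    rw [mem_sdiff] at hz ⊢
    exact ⟨smul_mem_compl hh hz.1, fun hm => hz.2 (by simpa using smul_mem_orb (inv_mem hh) hm)⟩
  have h1 : 2 * (Δ ∩ F).card + 1 ≤ Δ.card := orb_bound IH hP D.sub hne D.notMem (D.meets x D.notMem)
  have h2 := union_bound IH hP D.sub hne R hinvR (disjoint_compl_left.mono_left sdiff_subset)
    (fun z hz => D.meets z (mem_compl.1 (mem_sdiff.1 hz).1)) D.split
  have e1 : R.card + Δ.card = A₀ᶜ.card := card_sdiff_add_card_eq_card hΔ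
  rw [card_compl, hn, D.card] at e1
  have e2 : (Δ ∩ F).card + (R ∩ F).card + i = F.card := by
    rw [← card_union_of_disjoint (disjoint_left.2 fun z hz hz' =>
      (mem_sdiff.1 (mem_inter.1 hz').1).2 (mem_inter.1 hz).1), ← union_inter_distrib_right,
      union_sdiff_of_subset hΔ, ← D.card, show A₀ᶜ ∩ F = F \ A₀ by ext; simp [and_comm]]
    exact card_sdiff_add_card_eq_card D.sub
  refine ⟨h1, h2, by omega, e2, ?_⟩
  have hmv : ∀ Z : Finset Ω, (∀ h ∈ fixer G A₀, ∀ z ∈ Z, h • z ∈ Z) →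
      2 * (Z ∩ F).card + 1 ≤ Z.card → i < (Z \ F).card := fun Z hinv hb => by
    refine lt_card_of_invariant hP hi hik.le (card_pos.1 ?_) (fun z hz => (mem_sdiff.1 hz).2) ?_
    · have := card_sdiff_add_card_inter Z F; omega
    · intro k hk z hz
      rw [mem_sdiff] at hz ⊢
      exact ⟨hinv k (fixer_mono D.sub hk) z hz.1,
        fun e => hz.2 (smul_left_cancel k (mem_fixer.1 hk _ e) ▸ e)⟩
  have h3 := hmv Δ (fun h hh z hz => smul_mem_orb hh hz) h1
  have h4 := hmv R hinvR h2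
  have := card_sdiff_add_card_inter Δ F
  have := card_sdiff_add_card_inter R F
  omega

/-- The case `i = 2`: a tournament. -/
theorem split_two_false (IH : ∀ m < Fintype.card Ω, Bound m) (hP : Pro G F)
    (hn : Fintype.card Ω = 2 * F.card) (hi : HT G Ω 2) (hik : 2 < F.card)
    (D : Split G F A₀ 2 x) : False := by
  classical
  obtain ⟨h1, h2, h3, h4, hk6⟩ := split_facts IH hP hn hi hik (by omega) D
  obtain ⟨a, b, hab, rfl⟩ := card_eq_two.1 D.card
  set Δ := orb G ({a, b} : Finset Ω) x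
  set R := ({a, b} : Finset Ω)ᶜ \ Δ
  have hxA := D.notMem
  simp only [mem_insert, mem_singleton, not_or] at hxA
  have haF : a ∈ F := D.sub (mem_insert_self _ _)
  set P := ({a} : Finset Ω)ᶜ with hPdef
  have hPm : ∀ y, y ∈ P ↔ y ≠ a := fun y => by simp [hPdef]
  have hbP : b ∈ P := (hPm b).2 hab.symm
  have hxP : x ∈ P := (hPm x).2 hxA.1
  have hta : Trans G ({a} : Finset Ω) := hi _ (by simp)
  -- the second orbit is a single orbit
  have hR : ∀ y ∈ R, R ⊆ orb G ({a, b} : Finset Ω) y := by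
    intro y hy
    by_contra hne
    set Δ' := orb G ({a, b} : Finset Ω) y
    have hyA : y ∉ ({a, b} : Finset Ω) := mem_compl.1 (mem_sdiff.1 hy).1
    have hinvR : ∀ h ∈ fixer G ({a, b} : Finset Ω), ∀ z ∈ R, h • z ∈ R := fun h hh z hz => by
      rw [mem_sdiff] at hz ⊢
      exact ⟨smul_mem_compl hh hz.1, fun hm => hz.2 (by simpa using smul_mem_orb (inv_mem hh) hm)⟩
    have hsub : Δ' ⊆ R := orb_subset hy hinvR
    obtain ⟨z, hz, hz'⟩ := not_subset.1 hne
    have b1 : 2 * (Δ' ∩ F).card + 1 ≤ Δ'.card :=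
      orb_bound IH hP D.sub ⟨a, mem_insert_self _ _⟩ hyA (D.meets y hyA)
    have b2 := union_bound IH hP D.sub ⟨a, mem_insert_self _ _⟩ (R \ Δ') (fun h hh z hz => by
      rw [mem_sdiff] at hz ⊢
      exact ⟨hinvR h hh z hz.1, fun hm => hz.2 (by simpa using smul_mem_orb (inv_mem hh) hm)⟩)
      (disjoint_compl_left.mono_left (sdiff_subset.trans sdiff_subset))
      (fun z hz => D.meets z (mem_compl.1 (mem_sdiff.1 (mem_sdiff.1 hz).1).1))
      ⟨z, mem_sdiff.2 ⟨hz, hz'⟩⟩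
    have e1 : (R \ Δ').card + Δ'.card = R.card := card_sdiff_add_card_eq_card hsub
    have e2 : (Δ' ∩ F).card + ((R \ Δ') ∩ F).card = (R ∩ F).card := by
      rw [← card_union_of_disjoint (disjoint_left.2 fun z hz hz' =>
        (mem_sdiff.1 (mem_inter.1 hz').1).2 (mem_inter.1 hz).1), ← union_inter_distrib_right,
        union_sdiff_of_subset hsub]
    omega
  -- the orbital
  set Rel : Ω → Ω → Prop := fun u v => ∃ h ∈ fixer G ({a} : Finset Ω), h • b = u ∧ h • x = v
    with hRel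
  have hmove : ∀ u ∈ P, ∀ v ∈ P, ∃ h ∈ fixer G ({a} : Finset Ω), h • u = v := fun u hu v hv =>
    hta u v (by simpa [hPdef] using hu) (by simpa [hPdef] using hv)
  have hfa : ∀ {h : G}, h ∈ fixer G ({a} : Finset Ω) → h • a = a := fun hh =>
    mem_fixer.1 hh a (mem_singleton_self a)
  have hab' : ∀ {h : G}, h ∈ fixer G ({a} : Finset Ω) → h • b = b → h ∈ fixer G ({a, b} : Finset Ω) :=
    fun hh e => mem_fixer.2 fun z hz => by
      rcases mem_insert.1 hz with rfl | hz
      · exact hfa hh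
      · rw [mem_singleton.1 hz, e]
  have hRsmul : ∀ h ∈ fixer G ({a} : Finset Ω), ∀ u v, Rel (h • u) (h • v) ↔ Rel u v := by
    intro h hh u v
    constructor
    · rintro ⟨g, hg, e1, e2⟩
      exact ⟨h⁻¹ * g, mul_mem (inv_mem hh) hg, by rw [mul_smul, e1, inv_smul_smul],
        by rw [mul_smul, e2, inv_smul_smul]⟩
    · rintro ⟨g, hg, rfl, rfl⟩
      exact ⟨h * g, mul_mem hh hg, mul_smul _ _ _, mul_smul _ _ _⟩
  have hout : ∀ v, Rel b v ↔ v ∈ Δ := by
    intro v
    constructor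
    · rintro ⟨g, hg, e1, e2⟩
      exact mem_orb.2 ⟨g, hab' hg e1, e2⟩
    · intro hv
      obtain ⟨g, hg, e⟩ := mem_orb.1 hv
      exact ⟨g, fixer_mono (singleton_subset_iff.2 (mem_insert_self a _)) hg,
        mem_fixer.1 hg b (mem_insert_of_mem (mem_singleton_self b)), e⟩
  have hRP : ∀ {u v}, Rel u v → u ∈ P ∧ v ∈ P ∧ u ≠ v := by
    rintro u v ⟨g, hg, rfl, rfl⟩
    exact ⟨smul_mem_compl hg hbP, smul_mem_compl hg hxP, fun e => hxA.2 (smul_left_cancel g e).symm⟩
  have hcard_out : ∀ u ∈ P, (P.filter fun v => Rel u v).card = Δ.card := by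
    intro u hu
    obtain ⟨h, hh, rfl⟩ := hmove b hbP u hu
    rw [← card_smul_finset h Δ]
    refine congrArg Finset.card ?_
    ext v
    rw [mem_filter, ← inv_smul_mem_iff, ← hout, ← hRsmul h hh b, smul_inv_smul]
    exact ⟨And.right, fun hv => ⟨(hRP hv).2.1, hv⟩⟩
  have hcard_in : ∀ u ∈ P, (P.filter fun v => Rel v u).card = Δ.card := by
    intro u hu
    have hconst : ∀ v ∈ P, (P.filter fun w => Rel w v).card = (P.filter fun w => Rel w u).card := by
      intro v hv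
      obtain ⟨h, hh, rfl⟩ := hmove u hu v hv
      rw [← card_smul_finset h (P.filter fun w => Rel w u)]
      refine congrArg Finset.card ?_
      ext w
      rw [← inv_smul_mem_iff, mem_filter, mem_filter, ← hRsmul h hh (h⁻¹ • w) u, smul_inv_smul]
      exact ⟨fun hw => ⟨smul_mem_compl (inv_mem hh) hw.1, hw.2⟩, fun hw => ⟨(hRP hw.2).1, hw.2⟩⟩
    have hswap : ∑ v ∈ P, (P.filter fun w => Rel w v).card =
        ∑ v ∈ P, (P.filter fun w => Rel v w).card := by
      simp only [card_filter]; exact sum_comm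
    rw [sum_const_nat hconst, sum_const_nat hcard_out] at hswap
    exact Nat.eq_of_mul_eq_mul_left (card_pos.2 ⟨u, hu⟩) hswap
  have hPc : P.card + 1 = 2 * F.card := by rw [hPdef, card_compl, hn, card_singleton]; omega
  -- it is a tournament
  have hasym : ∀ u v, Rel u v → ¬ Rel v u := by
    intro u v huv hvu
    have hsym : ∀ u' v', Rel u' v' → Rel v' u' := by
      rintro u' v' ⟨g, hg, rfl, rfl⟩
      rw [hRsmul g hg]
      obtain ⟨g', hg', rfl, rfl⟩ := huv
      exact (hRsmul g' hg' x b).1 hvu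
    set E := (P ×ˢ P).filter fun q => Rel q.1 q.2
    have hE : E.card = P.card * Δ.card := by
      rw [← sum_const_nat hcard_out]
      simp only [E, card_filter, sum_product]
    have heven : (E.card : ZMod 2) = 0 := by
      rw [card_eq_sum_ones, Nat.cast_sum]
      refine sum_involution (fun q _ => q.swap) (fun q _ => by decide) ?_ ?_ (fun q _ => q.swap_swap)
      · intro q hq _ e
        exact (hRP (mem_filter.1 hq).2).2.2 (congrArg Prod.snd e)
      · intro q hq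
        simp only [E, mem_filter, mem_product] at hq ⊢
        exact ⟨⟨hq.1.2, hq.1.1⟩, hsym _ _ hq.2⟩
    have h2dvd : 2 ∣ E.card := (ZMod.natCast_eq_zero_iff _ _).1 heven
    rw [hE, Nat.prime_two.dvd_mul] at h2dvd
    omega
  have hdk : Δ.card + 1 = F.card := by
    have hsub : (P.filter fun v => Rel v b) ⊆ R := fun v hv => by
      obtain ⟨hv, hr⟩ := mem_filter.1 hv
      refine mem_sdiff.2 ⟨mem_compl.2 ?_, fun h => hasym _ _ hr ((hout v).2 h)⟩
      simp only [mem_insert, mem_singleton, not_or]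
      exact ⟨(hPm v).1 hv, (hRP hr).2.2⟩
    obtain ⟨y, hy⟩ : (P.filter fun v => Rel v b).Nonempty := card_pos.1 (by
      rw [hcard_in b hbP]; omega)
    have : R ⊆ P.filter fun v => Rel v b := fun z hz => by
      obtain ⟨g, hg, rfl⟩ := mem_orb.1 (hR y (hsub hy) hz)
      have hga := fixer_mono (singleton_subset_iff.2 (mem_insert_self a {b})) hg
      obtain ⟨hyP, hr⟩ := mem_filter.1 hy
      have := (hRsmul g hga y b).2 hr
      rw [mem_fixer.1 hg b (mem_insert_of_mem (mem_singleton_self b))] at this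
      exact mem_filter.2 ⟨(hRP this).1, this⟩
    have e := hcard_in b hbP
    rw [subset_antisymm hsub this] at e
    omega
  have htot : ∀ u ∈ P, ∀ v ∈ P, u ≠ v → Rel u v ∨ Rel v u := by
    intro u hu v hv hne
    have hd : Disjoint (P.filter fun w => Rel u w) (P.filter fun w => Rel w u) :=
      disjoint_left.2 fun w hw hw' => hasym _ _ (mem_filter.1 hw).2 (mem_filter.1 hw').2
    have hsub : (P.filter fun w => Rel u w) ∪ (P.filter fun w => Rel w u) ⊆ P.erase u := by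
      refine union_subset ?_ ?_ <;> intro w hw <;> rw [mem_filter] at hw <;>
        refine mem_erase.2 ⟨?_, hw.1⟩
      · exact (hRP hw.2).2.2.symm
      · exact (hRP hw.2).2.2
    have e := eq_of_subset_of_card_le hsub (by
      rw [card_union_of_disjoint hd, hcard_out u hu, hcard_in u hu, card_erase_of_mem hu]; omega)
    have := e ▸ mem_erase.2 ⟨hne.symm, hv⟩
    rcases mem_union.1 this with h | h
    exacts [Or.inl (mem_filter.1 h).2, Or.inr (mem_filter.1 h).2]
  -- the vectors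
  set χ : Ω → Ω → ℚ := fun u v => (if Rel u v then 1 else 0) - if Rel v u then 1 else 0 with hχ
  have hχsmul : ∀ h ∈ fixer G ({a} : Finset Ω), ∀ u v, χ (h • u) (h • v) = χ u v :=
    fun h hh u v => by simp only [hχ, hRsmul h hh]
  have hzero : ∀ v ∈ P, ∑ u ∈ P, χ u v = 0 := fun v hv => by
    simp only [hχ, sum_sub_distrib, sum_boole, hcard_in v hv, hcard_out v hv, sub_self]
  have hIsmul : ∀ h ∈ fixer G ({a} : Finset Ω), ∀ u v,
      ∑ w ∈ P, χ (h • u) w * χ (h • v) w = ∑ w ∈ P, χ u w * χ v w := fun h hh u v => by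
    refine (sum_bij' (fun w _ => h • w) (fun w _ => h⁻¹ • w) (fun w hw => smul_mem_compl hh hw)
      (fun w hw => smul_mem_compl (inv_mem hh) hw) (fun w _ => inv_smul_smul _ _)
      (fun w _ => smul_inv_smul _ _) fun w _ => ?_).symm
    rw [hχsmul h hh, hχsmul h hh]
  have hsq : ∀ u ∈ P, ∀ v ∈ P, χ u v * χ u v = if u = v then 0 else 1 := by
    intro u hu v hv
    by_cases e : u = v
    · subst e; simp [hχ]
    · rw [if_neg e]
      rcases htot u hu v hv e with h | h <;> simp [hχ, h, hasym _ _ h]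
  have hI0 : ∀ u ∈ P, ∑ w ∈ P, χ u w * χ u w = (P.card : ℚ) - 1 := fun u hu => by
    rw [sum_congr rfl (hsq u hu), ← add_sum_erase _ _ hu, if_pos rfl, sum_congr rfl
      (fun w hw => if_neg (ne_of_mem_erase hw).symm), sum_const, card_erase_of_mem hu,
      nsmul_eq_mul, Nat.cast_sub (card_pos.2 ⟨u, hu⟩)]
    simp
  have hI1 : ∀ u ∈ P, ∀ v ∈ P, u ≠ v →
      ∑ w ∈ P, χ u w * χ v w = ∑ w ∈ P, χ b w * χ x w := by
    intro u hu v hv hne
    rcases htot u hu v hv hne with ⟨h, hh, rfl, rfl⟩ | ⟨h, hh, rfl, rfl⟩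
    · exact hIsmul h hh b x
    · simp only [mul_comm (χ (h • x) _)]
      exact hIsmul h hh b x
  obtain ⟨y₀, hy₀, hy₀F⟩ := D.meets x (by simpa using hxA)
  have hy₀P : y₀ ∈ P := (hPm y₀).2 fun e => hy₀F (e ▸ haF)
  set O := orb G F y₀
  have hO : ∀ u ∈ O, u ∉ F := fun u hu => not_mem_orb hy₀F hu
  have hOP : O ⊆ P := fun u hu => (hPm u).2 fun e => hO u hu (e ▸ haF)
  have hO3 : 2 < O.card := lt_card_of_invariant hP hi hik.le ⟨_, self_mem_orb F y₀⟩ hO
    fun k hk z hz => smul_mem_orb hk hz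
  have hb := gram_bound P O P (F.erase a) (fun w hw => (hPm w).2 (ne_of_mem_erase hw)) χ hzero hI0
    hI1 hOP (self_mem_orb F y₀) (fun u hu w hw => by
      obtain ⟨k, hk, rfl⟩ := mem_orb.1 hu
      conv_lhs => rw [← mem_fixer.1 hk w (mem_of_mem_erase hw)]
      exact hχsmul k (fixer_mono (singleton_subset_iff.2 haF) hk) y₀ w)
  rw [sum_congr rfl (fun w hw => (hsq y₀ hy₀P w ((hPm w).2 (ne_of_mem_erase hw))).trans
    (if_neg fun e : y₀ = w => hy₀F (e.symm ▸ mem_of_mem_erase hw))), sum_const, nsmul_eq_mul,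
    mul_one] at hb
  have e1 : ((F.erase a).card : ℚ) = (F.card : ℚ) - 1 := by
    rw [card_erase_of_mem haF, Nat.cast_sub (by omega)]; simp
  have e2 : (P.card : ℚ) = 2 * (F.card : ℚ) - 1 := by
    have : (P.card : ℚ) + 1 = 2 * (F.card : ℚ) := by exact_mod_cast hPc
    linarith
  have hk3 : (3 : ℚ) ≤ F.card := by exact_mod_cast hik
  have hO3' : (3 : ℚ) ≤ O.card := by exact_mod_cast hO3
  rw [e1, e2] at hb
  nlinarith [mul_le_mul_of_nonneg_right hO3' (by linarith : (0 : ℚ) ≤ F.card)]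

/-- The numerical contradiction of the split case. -/
theorem split_numeric {i k π σ : ℚ} (hi3 : 3 ≤ i) (hint : i < 4 → i = 3) (hik : 2 * (i + 1) ≤ k)
    (hπ0 : 0 < π) (hπ1 : π < 1) (hσ1 : 1 ≤ σ) (hσi : σ ≤ i - 1) (h3 : i = 3 → σ = 1 ∨ σ = 2)
    (hmain : (i + 1) * ((k - i + 2) * (k - i + 1) *
        (k * π * (1 - π) - (1 - 2 * π) * (i * π - σ) / 2)) ≤
      k * ((2 * k + 2 - i - i - 1) * (π * (2 * k - i) * (1 - π)))) : False := by
  have hq : 0 < π * (1 - π) := mul_pos hπ0 (by linarith)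
  set Q := (k - i + 2) * (k - i + 1) with hQ
  have hQ0 : 0 ≤ Q := mul_nonneg (by linarith) (by linarith)
  have key : ∀ κ : ℚ, (1 - 2 * π) * (i * π - σ) / 2 ≤ κ * (π * (1 - π)) →
      (i + 1) * Q * (k - κ) ≤ k * (2 * k - 2 * i + 1) * (2 * k - i) := by
    intro κ hκ
    refine le_of_mul_le_mul_right ?_ hq
    have := mul_le_mul_of_nonneg_left hκ (mul_nonneg (by linarith : (0 : ℚ) ≤ i + 1) hQ0)
    linear_combination hmain + this
  rcases lt_or_ge i 4 with h4 | h4
  · obtain rfl := hint h4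
    have h := key 1 (by
      rcases h3 rfl with rfl | rfl
      · nlinarith [sq_nonneg (π - 3 / 8)]
      · nlinarith [sq_nonneg (π - 5 / 8)])
    rw [hQ] at h
    nlinarith
  · have h := key (i / 2) (by
      rcases le_or_gt π (1 / 2) with hp | hp
      · have h1 := mul_nonneg (by linarith : (0 : ℚ) ≤ 1 - 2 * π) (by linarith : (0 : ℚ) ≤ σ)
        have h2 := mul_nonneg (mul_nonneg hπ0.le hπ0.le) (by linarith : (0 : ℚ) ≤ i)
        linear_combination (1 / 2 : ℚ) * (h1 + h2)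
      · have h1 := mul_nonneg (by linarith : (0 : ℚ) ≤ 2 * π - 1) (by linarith : (0 : ℚ) ≤ i - σ)
        have h2 := mul_nonneg (mul_nonneg (sub_nonneg.2 hπ1.le) (sub_nonneg.2 hπ1.le))
          (by linarith : (0 : ℚ) ≤ i)
        linear_combination (1 / 2 : ℚ) * (h1 + h2))
    have h' : (i + 1) * Q ≤ 2 * k * (2 * k - 2 * i + 1) :=
      le_of_mul_le_mul_right (by linear_combination 2 * h)
        (show (0 : ℚ) < 2 * k - i by linarith)
    have h'' : (i + 1) * (k - i + 2) * (k - i + 1) < 4 * k * (k - i + 1) := by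
      calc (i + 1) * (k - i + 2) * (k - i + 1) = (i + 1) * Q := by rw [hQ]; ring
        _ ≤ 2 * k * (2 * k - 2 * i + 1) := h'
        _ < 4 * k * (k - i + 1) := by linarith
    have hlast := lt_of_mul_lt_mul_right h'' (show (0 : ℚ) ≤ k - i + 1 by linarith)
    nlinarith [mul_nonneg (sub_nonneg.2 h4) (by linarith : (0 : ℚ) ≤ k - 2 * (i + 1)),
      mul_nonneg (sub_nonneg.2 h4) (by linarith : (0 : ℚ) ≤ i)]

set_option maxHeartbeats 800000 in
/-- The case `i ≥ 3`. -/
theorem split_false (IH : ∀ m < Fintype.card Ω, Bound m) (hP : Pro G F)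
    (hn : Fintype.card Ω = 2 * F.card) (hi : HT G Ω i) (hik : i < F.card) (hi3 : 3 ≤ i)
    (D : Split G F A₀ i x) : False := by
  classical
  obtain ⟨h1, h2, h3, h4, hk⟩ := split_facts IH hP hn hi hik (by omega) D
  set Δ := orb G A₀ x
  obtain ⟨T, hT, hTc⟩ := exists_subset_card_eq (show 2 ≤ A₀.card by rw [D.card]; omega)
  obtain ⟨x₀, y₀, hxy, rfl⟩ := card_eq_two.1 hTc
  have hx₀ : x₀ ∈ A₀ := hT (mem_insert_self _ _)
  have hy₀ : y₀ ∈ A₀ := hT (mem_insert_of_mem (mem_singleton_self _))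
  set A' := (A₀.erase x₀).erase y₀ with hA'
  have hA'0 : A' ⊆ A₀ := (erase_subset _ _).trans (erase_subset _ _)
  have hA'c : A'.card + 2 = i := by
    rw [hA', card_erase_of_mem (mem_erase.2 ⟨hxy.symm, hy₀⟩), card_erase_of_mem hx₀, D.card]; omega
  set P := A'ᶜ with hPdef
  have hx₀P : x₀ ∈ P := mem_compl.2 fun h => (mem_erase.1 (mem_of_mem_erase h)).1 rfl
  have hy₀P : y₀ ∈ P := mem_compl.2 fun h => (mem_erase.1 h).1 rfl
  have hmove1 : ∀ u ∈ P, ∃ h ∈ fixer G A', h • x₀ = u := fun u hu =>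
    hi A' (by omega) x₀ u (mem_compl.1 hx₀P) (mem_compl.1 hu)
  have hmove : ∀ u ∈ P, ∀ v ∈ P, u ≠ v → ∃ h ∈ fixer G A', h • x₀ = u ∧ h • y₀ = v := by
    intro u hu v hv hne
    obtain ⟨h, hh, rfl⟩ := hmove1 u hu
    have h1 : h • y₀ ∉ insert (h • x₀) A' := by
      rw [mem_insert, not_or]
      exact ⟨fun e => hxy (smul_left_cancel h e).symm, mem_compl.1 (smul_mem_compl hh hy₀P)⟩
    have h2 : v ∉ insert (h • x₀) A' := by
      rw [mem_insert, not_or]; exact ⟨hne.symm, mem_compl.1 hv⟩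
    obtain ⟨k, hk, rfl⟩ := hi (insert (h • x₀) A') (by
      rw [card_insert_of_notMem (mem_compl.1 hu)]; omega) _ _ h1 h2
    exact ⟨k * h, mul_mem (fixer_mono (subset_insert _ _) hk) hh,
      by rw [mul_smul, mem_fixer.1 hk _ (mem_insert_self _ _)], mul_smul _ _ _⟩
  set Rel : Ω × Ω → Ω → Prop :=
    fun q u => ∃ h ∈ fixer G A', h • x₀ = q.1 ∧ h • y₀ = q.2 ∧ h • x = u with hRel
  have hfix0 : ∀ {h : G}, h ∈ fixer G A' → h • x₀ = x₀ → h • y₀ = y₀ → h ∈ fixer G A₀ :=
    fun hh e1 e2 => mem_fixer.2 fun z hz => by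
      by_cases hzx : z = x₀
      · rw [hzx, e1]
      by_cases hzy : z = y₀
      · rw [hzy, e2]
      exact mem_fixer.1 hh z (mem_erase.2 ⟨hzy, mem_erase.2 ⟨hzx, hz⟩⟩)
  have hrel : ∀ h ∈ fixer G A', ∀ u, Rel (h • x₀, h • y₀) u ↔ u ∈ h • Δ := by
    intro h hh u
    constructor
    · rintro ⟨g, hg, e1, e2, e3⟩
      rw [← inv_smul_mem_iff]
      refine mem_orb.2 ⟨h⁻¹ * g, hfix0 (mul_mem (inv_mem hh) hg) ?_ ?_, ?_⟩
      · rw [mul_smul, e1, inv_smul_smul]
      · rw [mul_smul, e2, inv_smul_smul]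
      · rw [mul_smul, e3]
    · intro hu
      obtain ⟨v, hv, rfl⟩ := mem_smul_finset.1 hu
      obtain ⟨g, hg, rfl⟩ := mem_orb.1 hv
      refine ⟨h * g, mul_mem hh (fixer_mono hA'0 hg), ?_, ?_, mul_smul _ _ _⟩
      · rw [mul_smul, mem_fixer.1 hg _ hx₀]
      · rw [mul_smul, mem_fixer.1 hg _ hy₀]
  have hRsmul : ∀ h ∈ fixer G A', ∀ q u, Rel (h • q) (h • u) ↔ Rel q u := by
    rintro h hh ⟨q1, q2⟩ u
    constructor
    · rintro ⟨g, hg, e1, e2, e3⟩
      refine ⟨h⁻¹ * g, mul_mem (inv_mem hh) hg, ?_, ?_, ?_⟩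
      · rw [mul_smul, e1]; exact inv_smul_smul h q1
      · rw [mul_smul, e2]; exact inv_smul_smul h q2
      · rw [mul_smul, e3, inv_smul_smul]
    · rintro ⟨g, hg, e1, e2, rfl⟩
      refine ⟨h * g, mul_mem hh hg, ?_, ?_, mul_smul _ _ _⟩
      · rw [mul_smul, e1]; rfl
      · rw [mul_smul, e2]; rfl
  have hRne : ∀ {q u}, Rel q u → u ≠ q.1 ∧ u ≠ q.2 ∧ u ∈ P := by
    rintro q u ⟨g, hg, e1, e2, rfl⟩
    rw [← e1, ← e2]
    refine ⟨fun e => D.notMem ((smul_left_cancel g e).symm ▸ hx₀), fun e =>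
      D.notMem ((smul_left_cancel g e).symm ▸ hy₀), smul_mem_compl hg (mem_compl.2 fun h =>
      D.notMem (hA'0 h))⟩
  have hΔe : ∀ q ∈ (F \ A').offDiag,
      (Fᶜ.filter fun u => Rel q u).card + (Δ ∩ F).card = Δ.card := by
    intro q hq
    obtain ⟨hq1, hq2, hne⟩ := mem_offDiag.1 hq
    rw [mem_sdiff] at hq1 hq2
    obtain ⟨h, hh, e1, e2⟩ := hmove q.1 (mem_compl.2 hq1.2) q.2 (mem_compl.2 hq2.2) hne
    have hA₁ : h • A₀ ⊆ F := fun z hz => by
      obtain ⟨y, hy, rfl⟩ := mem_smul_finset.1 hz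
      by_cases hyx : y = x₀
      · rw [hyx, e1]; exact hq1.1
      by_cases hyy : y = y₀
      · rw [hyy, e2]; exact hq2.1
      rw [mem_fixer.1 hh y (mem_erase.2 ⟨hyy, mem_erase.2 ⟨hyx, hy⟩⟩)]
      exact D.sub hy
    obtain ⟨w, hw, hwF⟩ := exists_fixer_smul hP hA₁ h (smul_finset_subset_smul_finset D.sub)
    have hwA' : w ∈ fixer G A' := mem_fixer.2 fun z hz => by
      have := mem_fixer.1 hw (h • z) (smul_mem_smul_finset (hA'0 hz))
      rwa [mem_fixer.1 hh z hz] at this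
    set h' := w⁻¹ * h
    have hh' : h' ∈ fixer G A' := mul_mem (inv_mem hwA') hh
    have e1' : h' • x₀ = q.1 := by
      rw [mul_smul, mem_fixer.1 (inv_mem hw) _ (smul_mem_smul_finset hx₀), e1]
    have e2' : h' • y₀ = q.2 := by
      rw [mul_smul, mem_fixer.1 (inv_mem hw) _ (smul_mem_smul_finset hy₀), e2]
    have hF' : h' • F = F := by rw [mul_smul, ← hwF, inv_smul_smul]
    have : (Fᶜ.filter fun u => Rel q u) = h' • Δ \ F := by
      ext u
      rw [mem_filter, mem_sdiff, mem_compl, ← hrel h' hh', e1', e2']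
      exact and_comm
    rw [this]
    conv_lhs => arg 2; rw [← card_smul_finset h' (Δ ∩ F), smul_finset_inter, hF']
    rw [card_sdiff_add_card_inter, card_smul_finset]
  have hPc : P.card + i = 2 * F.card + 2 := by
    rw [hPdef, card_compl, hn]; omega
  -- the vectors
  set d : ℕ := Δ.card
  set W : ℚ := 2 * (F.card : ℚ) - i with hW
  set π : ℚ := (d : ℚ) / W with hπ
  have hW0 : 0 < W := by
    have : (i : ℚ) < F.card := by exact_mod_cast hik
    rw [hW]; linarith
  have hdπ : (d : ℚ) = π * W := by rw [hπ, div_mul_cancel₀ _ hW0.ne']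
  set χ : Ω → Ω × Ω → ℚ := fun u q =>
    (if Rel q u then 1 else 0) - π * (if u ≠ q.1 ∧ u ≠ q.2 then 1 else 0) with hχ
  have hχsmul : ∀ h ∈ fixer G A', ∀ u q, χ (h • u) (h • q) = χ u q := fun h hh u q => by
    simp only [hχ, hRsmul h hh, Prod.smul_fst, Prod.smul_snd, ne_eq, smul_left_cancel_iff]
  have hcardP : ∀ q ∈ P.offDiag, ((P.filter fun u => Rel q u).card : ℚ) = d ∧
      ((P.filter fun u => u ≠ q.1 ∧ u ≠ q.2).card : ℚ) = W := by
    intro q hq
    obtain ⟨hq1, hq2, hne⟩ := mem_offDiag.1 hq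
    obtain ⟨h, hh, e1, e2⟩ := hmove q.1 hq1 q.2 hq2 hne
    constructor
    · rw [Nat.cast_inj, show d = (h • Δ).card from (card_smul_finset _ _).symm]
      refine congrArg Finset.card ?_
      ext u
      rw [mem_filter, ← hrel h hh, e1, e2]
      exact ⟨And.right, fun hu => ⟨(hRne hu).2.2, hu⟩⟩
    · rw [show (P.filter fun u => u ≠ q.1 ∧ u ≠ q.2) = (P.erase q.1).erase q.2 by
        ext; simp only [mem_filter, mem_erase]; tauto]
      have := card_erase_add_one (mem_erase.2 ⟨hne.symm, hq2⟩)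
      have := card_erase_add_one hq1
      have hP' : (((P.erase q.1).erase q.2).card : ℚ) + i = 2 * (F.card : ℚ) := by
        exact_mod_cast (show ((P.erase q.1).erase q.2).card + i = 2 * F.card by omega)
      rw [hW]; linarith
  have hzero : ∀ q ∈ P.offDiag, ∑ u ∈ P, χ u q = 0 := fun q hq => by
    simp only [hχ, sum_sub_distrib, ← mul_sum, sum_boole, (hcardP q hq).1, (hcardP q hq).2]
    rw [hdπ, sub_self]
  have hIsmul : ∀ h ∈ fixer G A', ∀ u v, ∑ q ∈ P.offDiag, χ (h • u) q * χ (h • v) q =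
      ∑ q ∈ P.offDiag, χ u q * χ v q := fun h hh u v => by
    have hmap : ∀ g ∈ fixer G A', ∀ q ∈ P.offDiag, g • q ∈ P.offDiag := fun g hg q hq => by
      obtain ⟨hq1, hq2, hne⟩ := mem_offDiag.1 hq
      exact mem_offDiag.2 ⟨smul_mem_compl hg hq1, smul_mem_compl hg hq2,
        fun e => hne (smul_left_cancel g e)⟩
    refine (sum_bij' (fun q _ => h • q) (fun q _ => h⁻¹ • q) (hmap h hh) (hmap _ (inv_mem hh))
      (fun q _ => inv_smul_smul _ _) (fun q _ => smul_inv_smul _ _) fun q _ => ?_).symm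
    rw [hχsmul h hh, hχsmul h hh]
  set I0 := ∑ q ∈ P.offDiag, χ x₀ q * χ x₀ q with hI0
  have hI0' : ∀ u ∈ P, ∑ q ∈ P.offDiag, χ u q * χ u q = I0 := fun u hu => by
    obtain ⟨h, hh, rfl⟩ := hmove1 u hu
    exact hIsmul h hh _ _
  have hI1 : ∀ u ∈ P, ∀ v ∈ P, u ≠ v → ∑ q ∈ P.offDiag, χ u q * χ v q =
      ∑ q ∈ P.offDiag, χ x₀ q * χ y₀ q := fun u hu v hv hne => by
    obtain ⟨h, hh, rfl, rfl⟩ := hmove u hu v hv hne
    exact hIsmul h hh _ _
  have hsq : ∀ q u, χ u q * χ u q =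
      (1 - 2 * π) * (if Rel q u then 1 else 0) + π ^ 2 * (if u ≠ q.1 ∧ u ≠ q.2 then 1 else 0) := by
    intro q u
    by_cases hr : Rel q u
    · simp only [hχ, if_pos hr, if_pos (And.intro (hRne hr).1 (hRne hr).2.1)]; ring
    · simp only [hχ, if_neg hr]
      split_ifs <;> ring
  have hPpos : (1 : ℚ) < P.card := by exact_mod_cast (show 1 < P.card by omega)
  have hI0eq : I0 = ((P.card : ℚ) - 1) * (d * (1 - π)) := by
    have h1 : ∑ u ∈ P, ∑ q ∈ P.offDiag, χ u q * χ u q = (P.card : ℚ) * I0 := by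
      rw [sum_congr rfl hI0', sum_const, nsmul_eq_mul]
    have h2 : ∑ u ∈ P, ∑ q ∈ P.offDiag, χ u q * χ u q = (P.offDiag.card : ℚ) * (d * (1 - π)) := by
      rw [sum_comm, sum_congr rfl (g := fun _ => (d : ℚ) * (1 - π)) (fun q hq => ?_), sum_const,
        nsmul_eq_mul]
      simp only [hsq, sum_add_distrib, ← mul_sum, sum_boole, (hcardP q hq).1, (hcardP q hq).2]
      rw [hdπ]; ring
    have h3 : (P.offDiag.card : ℚ) = (P.card : ℚ) * P.card - P.card := by
      rw [offDiag_card, Nat.cast_sub (Nat.le_mul_self _), Nat.cast_mul]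
    rw [h1, h3] at h2
    exact mul_left_cancel₀ (show (P.card : ℚ) ≠ 0 by linarith) (by linear_combination h2)
  set X : ℚ := d * (1 - π) with hX
  set C₀ := (F \ A').offDiag
  set e : ℕ := (Δ ∩ F).card
  have hπ0 : 0 < π := div_pos (by exact_mod_cast (show 0 < d by omega)) hW0
  have hπ1 : π < 1 := by
    rw [hπ, div_lt_one hW0, hW, lt_sub_iff_add_lt]
    exact_mod_cast (show d + i < 2 * F.card by omega)
  have hEu : ∀ u ∈ Fᶜ, ((i : ℚ) + 1) * ∑ q ∈ C₀, χ u q * χ u q ≤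
      ((P.card : ℚ) - i - 1) * X := by
    intro u hu
    rw [mem_compl] at hu
    set O := orb G F u
    have hO : ∀ v ∈ O, v ∉ F := fun v hv => not_mem_orb hu hv
    have hOP : O ⊆ P := fun v hv => mem_compl.2 fun h => hO v hv (D.sub (hA'0 h))
    have hOi : i < O.card := lt_card_of_invariant hP hi hik.le ⟨u, self_mem_orb F u⟩ hO
      fun k hk z hz => smul_mem_orb hk hz
    have hC : C₀ ⊆ P.offDiag := fun q hq => by
      obtain ⟨hq1, hq2, hne⟩ := mem_offDiag.1 hq
      exact mem_offDiag.2 ⟨mem_compl.2 (mem_sdiff.1 hq1).2, mem_compl.2 (mem_sdiff.1 hq2).2, hne⟩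
    have hb := gram_bound P O P.offDiag C₀ hC χ hzero hI0' hI1 hOP (self_mem_orb F u)
      (fun v hv q hq => by
        obtain ⟨k, hk, rfl⟩ := mem_orb.1 hv
        obtain ⟨hq1, hq2, -⟩ := mem_offDiag.1 hq
        have hkq : k • q = q := Prod.ext (mem_fixer.1 hk _ (mem_sdiff.1 hq1).1)
          (mem_fixer.1 hk _ (mem_sdiff.1 hq2).1)
        conv_lhs => rw [← hkq]
        exact hχsmul k (fixer_mono (hA'0.trans D.sub) hk) u q)
    rw [hI0eq] at hb
    have hOi' : (i : ℚ) + 1 ≤ O.card := by exact_mod_cast hOi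
    have hE0 : 0 ≤ ∑ q ∈ C₀, χ u q * χ u q := sum_nonneg fun q _ => mul_self_nonneg _
    have hX0 : 0 ≤ X := mul_nonneg (Nat.cast_nonneg _) (by linarith)
    have hb' : (O.card : ℚ) * ∑ q ∈ C₀, χ u q * χ u q ≤ ((P.card : ℚ) - O.card) * X :=
      le_of_mul_le_mul_left (by linear_combination hb) (show (0 : ℚ) < P.card - 1 by linarith)
    nlinarith [mul_le_mul_of_nonneg_right hOi' hE0, mul_le_mul_of_nonneg_right hOi' hX0]
  have hsumE : ∑ u ∈ Fᶜ, ∑ q ∈ C₀, χ u q * χ u q =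
      (C₀.card : ℚ) * ((1 - 2 * π) * ((d : ℚ) - e) + π ^ 2 * F.card) := by
    rw [sum_comm, sum_congr rfl (g := fun _ => (1 - 2 * π) * ((d : ℚ) - e) + π ^ 2 * F.card)
      (fun q hq => ?_), sum_const, nsmul_eq_mul]
    simp only [hsq, sum_add_distrib, ← mul_sum, sum_boole]
    have h5 : ((Fᶜ.filter fun u => Rel q u).card : ℚ) + e = d := by exact_mod_cast hΔe q hq
    obtain ⟨hq1, hq2, -⟩ := mem_offDiag.1 hq
    rw [filter_true_of_mem (s := Fᶜ) (p := fun u => u ≠ q.1 ∧ u ≠ q.2) (fun u hu =>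
      ⟨fun h => mem_compl.1 hu (h ▸ (mem_sdiff.1 hq1).1),
        fun h => mem_compl.1 hu (h ▸ (mem_sdiff.1 hq2).1)⟩), card_compl, hn,
      show 2 * F.card - F.card = F.card by omega]
    rw [← h5]; ring
  have hmain := sum_le_sum hEu
  rw [← mul_sum, hsumE, sum_const, nsmul_eq_mul, card_compl, hn,
    show 2 * F.card - F.card = F.card by omega] at hmain
  -- numbers
  set k : ℚ := (F.card : ℚ) with hkdef
  set σ : ℚ := (d : ℚ) - 2 * e with hσ
  have hσ1 : 1 ≤ σ := by
    rw [hσ, le_sub_iff_add_le]; exact_mod_cast (show 1 + 2 * e ≤ d by omega)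
  have hσi : σ ≤ i - 1 := by
    rw [hσ, sub_le_iff_le_add]
    have : (d : ℚ) + 1 ≤ i + 2 * e := by exact_mod_cast (show d + 1 ≤ i + 2 * e by omega)
    linarith
  have hik2 : 2 * ((i : ℚ) + 1) ≤ k := by rw [hkdef]; exact_mod_cast hk
  have hC₀ : (C₀.card : ℚ) = (k - i + 2) * (k - i + 1) := by
    have h5 : ((F \ A').card : ℚ) = k - i + 2 := by
      have := card_sdiff_add_card_eq_card (hA'0.trans D.sub)
      have h6 : ((F \ A').card : ℚ) + i = k + 2 := by
        rw [hkdef]; exact_mod_cast (show (F \ A').card + i = F.card + 2 by omega)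
      linarith
    rw [show C₀.card = (F \ A').card * (F \ A').card - (F \ A').card from offDiag_card _,
      Nat.cast_sub (Nat.le_mul_self _), Nat.cast_mul, h5]
    ring
  have hP2 : (P.card : ℚ) = 2 * k + 2 - i := by
    have : (P.card : ℚ) + i = 2 * k + 2 := by rw [hkdef]; exact_mod_cast hPc
    linarith
  have hbr : (1 - 2 * π) * ((d : ℚ) - e) + π ^ 2 * k =
      k * π * (1 - π) - (1 - 2 * π) * ((i : ℚ) * π - σ) / 2 := by
    have hdW : (d : ℚ) = π * (2 * k - i) := by rw [hdπ, hW]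
    rw [hσ]
    linear_combination (1 - 2 * π) / 2 * hdW
  rw [hbr, hC₀, hX, hdπ, hW, hP2] at hmain
  refine split_numeric (by exact_mod_cast hi3) ?_ hik2 hπ0 hπ1 hσ1 hσi ?_ hmain
  · intro hlt
    have : i = 3 := by
      by_contra h
      have : (4 : ℚ) ≤ i := by exact_mod_cast (show 4 ≤ i by omega)
      linarith
    exact_mod_cast this
  · intro hi3e
    have hi3n : i = 3 := by exact_mod_cast hi3e
    obtain h | h : d = 1 + 2 * e ∨ d = 2 + 2 * e := by omega
    · exact Or.inl (by rw [hσ, h]; push_cast; ring)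
    · exact Or.inr (by rw [hσ, h]; push_cast; ring)

end Cfsg.Agent.Perm.Pronormal
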