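import Cfsg.Agent.Lib.Perm.Pronormal.Lines
import Cfsg.Agent.Lib.Perm.Pronormal.Split

/-!
# Pronormal subgroups fix fewer than half of the points

Induction on the degree, with the level at which transitivity stops deciding the case.
-/

set_option autoImplicit false
set_option linter.unusedSectionVars false

namespace Cfsg.Agent.Perm.Pronormal

open MulAction Finset
open scoped Pointwise

/-- A fixed point set of a pronormal subgroup has fewer than half of the points. -/
theorem bound : ∀ n, Bound n := by
  intro n
  induction n using Nat.strong_induction_on with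
  | _ n IH =>
    intro G Ω _ _ _ _ _ _ F hP hne hn
    subst hn
    by_contra hbad
    obtain ⟨hn, h2, hFne⟩ := two_trans IH hP hne (by omega)
    obtain ⟨i, hi2, hik, hi, hnot⟩ : ∃ i, 2 ≤ i ∧ i < F.card ∧ HT G Ω i ∧ ¬ HT G Ω (i + 1) := by
      by_contra hno
      push Not at hno
      refine not_ht_card hP hFne hn ?_
      have hall : ∀ j, j ≤ F.card → HT G Ω j := by
        intro j
        induction j with
        | zero => exact fun _ => h2.mono (by omega)
        | succ j ih =>
          intro hj
          rcases Nat.lt_or_ge j 2 with h | h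
          · exact h2.mono (by omega)
          · exact hno j h (by omega) (ih (by omega))
      exact hall _ le_rfl
    obtain ⟨A₀, hA₀, hA₀c⟩ := exists_subset_card_eq hik.le
    have hnt : ¬ Trans G A₀ := fun ht => hnot fun A hA => by
      rcases Nat.lt_or_ge A.card i with h | h
      · exact hi A h
      · obtain ⟨g, rfl⟩ := exists_smul_set hi i le_rfl A₀ A hA₀c (by omega)
        exact ht.smul g
    by_cases htriv : ∃ z, z ∉ A₀ ∧ orb G A₀ z ⊆ F
    · obtain ⟨z, hz, horb⟩ := htriv
      exact lines_false hi hik hP hn hA₀ hA₀c hz horb hi2
    push Not at htriv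
    simp only [Trans, not_forall, not_exists, not_and] at hnt
    obtain ⟨x, y, hx, hy, hxy⟩ := hnt
    have D : Split G F A₀ i x :=
      ⟨hA₀, hA₀c, hx, fun z hz => not_subset.1 (htriv z hz),
        ⟨y, mem_sdiff.2 ⟨mem_compl.2 hy, fun h => by
          obtain ⟨k, hk, e⟩ := mem_orb.1 h
          exact hxy k hk e⟩⟩⟩
    rcases eq_or_lt_of_le hi2 with h | h
    · obtain rfl := h
      exact split_two_false IH hP hn hi hik D
    · exact split_false IH hP hn hi hik (by omega) D

end Cfsg.Agent.Perm.Pronormal
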