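import Cfsg.Agent.Lib.Perm.Pronormal.Basic

/-!
# Pronormal fixed point sets: double transitivity and the moment argument

In the equality case the group is doubly transitive of degree `2k`. If it is triply transitive and
two distinct translates never share more than half of their points, the third central moment of
the intersection sizes is negative, which is absurd.
-/

set_option autoImplicit false
set_option linter.unusedSectionVars false
set_option linter.style.haveILetI false
set_option linter.unusedDecidableInType false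
set_option linter.unusedFintypeInType false

namespace Cfsg.Agent.Perm.Pronormal

open MulAction Finset
open scoped Pointwise

variable {G Ω : Type} [Group G] [Fintype Ω] [DecidableEq Ω] [MulAction G Ω] {F : Finset Ω}

/-- The pointwise stabiliser of `A` is transitive on the other points. -/
def Trans (G : Type) [Group G] {Ω : Type} [MulAction G Ω] (A : Finset Ω) : Prop :=
  ∀ x y, x ∉ A → y ∉ A → ∃ h ∈ fixer G A, h • x = y

/-- `i`-fold transitivity. -/
def HT (G : Type) [Group G] (Ω : Type) [MulAction G Ω] (i : ℕ) : Prop :=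
  ∀ A : Finset Ω, A.card < i → Trans G A

theorem HT.mono {i j : ℕ} (h : HT G Ω i) (hij : j ≤ i) : HT G Ω j := fun A hA => h A (by omega)

theorem Trans.smul {A : Finset Ω} (h : Trans G A) (g : G) : Trans G (g • A) := by
  intro x y hx hy
  rw [← inv_smul_mem_iff] at hx hy
  obtain ⟨k, hk, e⟩ := h _ _ hx hy
  refine ⟨g * k * g⁻¹, conj_mem_fixer hk, ?_⟩
  rw [mul_smul, mul_smul, e, smul_inv_smul]

theorem exists_smul_set {i : ℕ} (h : HT G Ω i) :
    ∀ j ≤ i, ∀ A B : Finset Ω, A.card = j → B.card = j → ∃ g : G, g • A = B := by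
  intro j
  induction j with
  | zero =>
    intro _ A B hA hB
    exact ⟨1, by rw [card_eq_zero.1 hA, card_eq_zero.1 hB, smul_finset_empty]⟩
  | succ j ih =>
    intro hj A B hA hB
    obtain ⟨a, A', ha, rfl, hA'⟩ := card_eq_succ.1 hA
    obtain ⟨b, B', hb, rfl, hB'⟩ := card_eq_succ.1 hB
    obtain ⟨g, hg⟩ := ih (by omega) A' B' hA' hB'
    have hga : g • a ∉ B' := by
      rw [← hg, smul_mem_smul_finset_iff]; exact ha
    obtain ⟨k, hk, e⟩ := h B' (by omega) _ _ hga hb
    refine ⟨k * g, ?_⟩
    rw [mul_smul, smul_finset_insert, smul_finset_insert, hg, e, smul_set_eq_of_fixer hk]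

theorem exists_through {i : ℕ} (h : HT G Ω i) (hik : i ≤ F.card) {A : Finset Ω} (hA : A.card ≤ i) :
    ∃ g : G, A ⊆ g • F := by
  obtain ⟨A₀, hA₀, hc⟩ := exists_subset_card_eq (le_trans hA hik)
  obtain ⟨g, hg⟩ := exists_smul_set h _ hA A₀ A hc rfl
  exact ⟨g, hg ▸ smul_finset_subset_smul_finset hA₀⟩

/-- An invariant set of moved points is larger than the transitivity. -/
theorem lt_card_of_invariant (hP : Pro G F) {i : ℕ} (h : HT G Ω i) (hik : i ≤ F.card)
    {Z : Finset Ω} (hne : Z.Nonempty) (hd : ∀ z ∈ Z, z ∉ F)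
    (hinv : ∀ k ∈ fixer G F, ∀ z ∈ Z, k • z ∈ Z) : i < Z.card := by
  by_contra hle
  obtain ⟨g, hg⟩ := exists_through h hik (Nat.le_of_not_lt hle)
  exact not_subset_of_invariant hP hne hd hinv g hg

/-- The complement of `F` is no translate. -/
theorem compl_ne_smul (hP : Pro G F) (hne : F.Nonempty) (g : G) : g • F ≠ Fᶜ := by
  intro e
  have := eq_of_invariant hP g fun k hk => by
    rw [e]
    refine eq_of_subset_of_card_le ?_ (le_of_eq (card_smul_finset _ _).symm)
    intro z hz
    obtain ⟨y, hy, rfl⟩ := mem_smul_finset.1 hz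
    rw [mem_compl] at hy ⊢
    intro h'
    exact hy (smul_left_cancel k (mem_fixer.1 hk _ h') ▸ h')
  obtain ⟨a, ha⟩ := hne
  have ha' : a ∈ Fᶜ := e ▸ this.symm ▸ ha
  exact mem_compl.1 ha' ha

theorem not_ht_card (hP : Pro G F) (hne : F.Nonempty) (hn : Fintype.card Ω = 2 * F.card) :
    ¬ HT G Ω F.card := fun h => by
  obtain ⟨g, hg⟩ := exists_smul_set h _ le_rfl F Fᶜ rfl (by rw [card_compl, hn]; omega)
  exact compl_ne_smul hP hne g hg

theorem one_lt_inter_compl (hP : Pro G F) (hne : F.Nonempty) (hn : Fintype.card Ω = 2 * F.card)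
    (g : G) : 1 ≤ (F ∩ g • F).card := by
  by_contra h0
  refine compl_ne_smul hP hne g (eq_of_subset_of_card_le (fun z hz => ?_) ?_)
  · rw [mem_compl]
    intro hzF
    exact h0 (card_pos.2 ⟨z, mem_inter.2 ⟨hzF, hz⟩⟩)
  · rw [card_compl, card_smul_finset, hn]; omega

section classes

/-- Points lying in the same translates. -/
noncomputable def cls (G : Type) [Group G] {Ω : Type} [Fintype Ω] [DecidableEq Ω] [MulAction G Ω]
    (F : Finset Ω) (b : Ω) : Finset Ω := by
  classical exact univ.filter fun c => ∀ g : G, b ∈ g • F ↔ c ∈ g • F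

theorem mem_cls {b c : Ω} : c ∈ cls G F b ↔ ∀ g : G, b ∈ g • F ↔ c ∈ g • F := by simp [cls]

theorem self_mem_cls (b : Ω) : b ∈ cls G F b := mem_cls.2 fun _ => Iff.rfl

theorem cls_eq_of_mem {b c : Ω} (h : c ∈ cls G F b) : cls G F c = cls G F b := by
  ext d
  simp only [mem_cls] at h ⊢
  exact forall_congr' fun g => by rw [h g]

theorem smul_cls (g : G) (b : Ω) : g • cls G F b = cls G F (g • b) := by
  ext c
  rw [← inv_smul_mem_iff, mem_cls, mem_cls]
  have e : ∀ (k : G) (z : Ω), g • z ∈ k • F ↔ z ∈ (g⁻¹ * k) • F := fun k z => by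
    rw [← smul_mem_smul_finset_iff g⁻¹, inv_smul_smul, mul_smul]
  constructor
  · intro h k
    rw [e, h, ← e, smul_inv_smul]
  · intro h k
    have := h (g * k)
    rw [mul_smul, smul_mem_smul_finset_iff] at this
    rw [this, inv_smul_mem_iff]

/-- The set of classes. -/
def Cls (G : Type) [Group G] {Ω : Type} [Fintype Ω] [DecidableEq Ω] [MulAction G Ω]
    (F : Finset Ω) : Type :=
  {C : Finset Ω // C ∈ univ.image (cls G F)}

noncomputable instance : Fintype (Cls G F) := Subtype.fintype _

instance : DecidableEq (Cls G F) := inferInstanceAs (DecidableEq {C : Finset Ω // _})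

instance : MulAction G (Cls G F) where
  smul g C := ⟨g • C.1, by
    obtain ⟨b, -, e⟩ := mem_image.1 C.2
    exact mem_image.2 ⟨g • b, mem_univ _, by rw [← e, smul_cls]⟩⟩
  one_smul C := Subtype.ext (one_smul G C.1)
  mul_smul g h C := Subtype.ext (mul_smul g h C.1)

/-- Distinct points are separated by some translate. -/
theorem cls_eq_singleton [Finite G] [IsPretransitive G Ω]
    (IH : ∀ m < Fintype.card Ω, Bound m) (hP : Pro G F) (hne : F ≠ univ)
    (hbad : Fintype.card Ω ≤ 2 * F.card) (b : Ω) : cls G F b = {b} := by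
  classical
  have hcard : ∀ c, (cls G F c).card = (cls G F b).card := fun c => by
    obtain ⟨g, rfl⟩ := exists_smul_eq G b c
    rw [← smul_cls, card_smul_finset]
  by_contra hb
  have hs : 2 ≤ (cls G F b).card := by
    by_contra hlt
    refine hb (eq_singleton_iff_unique_mem.2 ⟨self_mem_cls b, fun x hx => ?_⟩)
    exact card_le_one.1 (by omega) x hx b (self_mem_cls b)
  let π : Ω → Cls G F := fun c => ⟨cls G F c, mem_image_of_mem _ (mem_univ _)⟩
  have hπ : ∀ (g : G) c, π (g • c) = g • π c := fun g c => Subtype.ext (smul_cls g c).symm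
  have hsurj : Function.Surjective π := fun C => by
    obtain ⟨c, -, e⟩ := mem_image.1 C.2
    exact ⟨c, Subtype.ext e⟩
  have hfib : ∀ c d, π c = π d ↔ c ∈ cls G F d := fun c d =>
    ⟨fun e => by
      have h : cls G F c = cls G F d := congrArg Subtype.val e
      rw [← h]; exact self_mem_cls c, fun h => Subtype.ext (cls_eq_of_mem h)⟩
  have hsat : ∀ (g : G) c d, π c = π d → d ∈ g • F → c ∈ g • F := fun g c d e hd =>
    (mem_cls.1 ((hfib c d).1 e) g).1 hd
  haveI : IsPretransitive G (Cls G F) := ⟨fun C D => by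
    obtain ⟨c, rfl⟩ := hsurj C
    obtain ⟨d, rfl⟩ := hsurj D
    obtain ⟨g, rfl⟩ := exists_smul_eq G c d
    exact ⟨g, (hπ g c).symm⟩⟩
  set F' : Finset (Cls G F) := F.image π
  have hmem : ∀ (g : G) c, π c ∈ g • F' ↔ c ∈ g • F := fun g c => by
    have h1 : ∀ d, π d ∈ F' ↔ d ∈ F := fun d => by
      refine ⟨fun h => ?_, mem_image_of_mem π⟩
      obtain ⟨d', hd', e⟩ := mem_image.1 h
      simpa using hsat 1 d d' e.symm (by simpa using hd')
    rw [← inv_smul_mem_iff, ← hπ, h1, inv_smul_mem_iff]
  have hP' : Pro G F' := fun g => by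
    obtain ⟨w, hw, hwF⟩ := hP g
    refine ⟨w, (sup_le (le_sup_of_le_left ?_) (le_sup_of_le_right ?_) :
      fixer G F ⊔ fixer G (g • F) ≤ fixer G F' ⊔ fixer G (g • F')) hw, ?_⟩
    · intro k hk
      refine mem_fixer.2 fun C hC => ?_
      obtain ⟨c, hc, rfl⟩ := mem_image.1 hC
      rw [← hπ, mem_fixer.1 hk c hc]
    · intro k hk
      refine mem_fixer.2 fun C hC => ?_
      obtain ⟨c, rfl⟩ := hsurj C
      rw [← hπ, mem_fixer.1 hk c ((hmem g c).1 hC)]
    · ext C
      obtain ⟨c, rfl⟩ := hsurj C
      rw [hmem, hmem, hwF]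
  have hne' : F' ≠ univ := fun e => by
    refine hne (eq_univ_of_forall fun c => ?_)
    have := (hmem 1 c).1 (by rw [one_smul, e]; exact mem_univ _)
    rwa [one_smul] at this
  have hn : Fintype.card Ω = Fintype.card (Cls G F) * (cls G F b).card := by
    rw [← card_univ, card_eq_sum_card_fiberwise (f := π) (t := univ) fun _ _ => mem_univ _,
      sum_const_nat, card_univ]
    intro C _
    obtain ⟨d, rfl⟩ := hsurj C
    rw [← hcard d]
    congr 1
    ext c
    simp [hfib]
  have hk : F.card = F'.card * (cls G F b).card := by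
    rw [card_eq_sum_card_fiberwise (f := π) (t := F') fun c hc => mem_image_of_mem π hc,
      sum_const_nat]
    intro C hC
    obtain ⟨d, hd, rfl⟩ := mem_image.1 hC
    rw [← hcard d]
    congr 1
    ext c
    simp only [mem_filter, hfib]
    exact ⟨And.right, fun h => ⟨by simpa using hsat 1 c d ((hfib c d).2 h) (by simpa using hd), h⟩⟩
  have hlt : Fintype.card (Cls G F) < Fintype.card Ω := by
    have : 0 < Fintype.card (Cls G F) := Fintype.card_pos_iff.2 ⟨π b⟩
    rw [hn]
    exact lt_mul_of_one_lt_right this (by omega)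
  have hB := IH _ hlt G (Cls G F) F' hP' hne' rfl
  nlinarith

end classes

section start

variable [Finite G] [IsPretransitive G Ω] (IH : ∀ m < Fintype.card Ω, Bound m) (hP : Pro G F)
  (hne : F ≠ univ) (hbad : Fintype.card Ω ≤ 2 * F.card)
include IH hP hne hbad

/-- The orbits of a point stabiliser all meet the moved points. -/
theorem orb_point_meets {a : Ω} (ha : a ∈ F) {z : Ω} (hz : z ≠ a) :
    ∃ y ∈ orb G {a} z, y ∉ F := by
  by_contra hall
  push Not at hall
  have hsub : ∀ g : G, {a} ⊆ g • F → {z} ⊆ g • F := fun g hg => by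
    obtain ⟨w, hw, hwF⟩ := exists_fixer_smul hP (singleton_subset_iff.2 ha) g hg
    rw [singleton_subset_iff, ← hwF, ← inv_smul_mem_iff]
    exact hall _ (smul_mem_orb (inv_mem hw) (self_mem_orb _ _))
  have hle : through G F {z} ≤ through G F {a} := by
    obtain ⟨g, rfl⟩ := exists_smul_eq G a z
    rw [← smul_finset_singleton, through_smul]
  have hz' : z ∈ cls G F a := mem_cls.2 fun g =>
    ⟨fun h => singleton_subset_iff.1 (hsub g (singleton_subset_iff.2 h)),
      fun h => singleton_subset_iff.1 (through_eq hsub hle g (singleton_subset_iff.2 h))⟩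
  rw [cls_eq_singleton IH hP hne hbad, mem_singleton] at hz'
  exact hz hz'

/-- The equality case is doubly transitive of degree `2k`. -/
theorem two_trans : Fintype.card Ω = 2 * F.card ∧ HT G Ω 2 ∧ F.Nonempty := by
  obtain ⟨x₀, hx₀⟩ : ∃ x, x ∉ F := by
    by_contra h
    push Not at h
    exact hne (eq_univ_of_forall h)
  have hpos : 0 < Fintype.card Ω := Fintype.card_pos_iff.2 ⟨x₀⟩
  obtain ⟨a, ha⟩ : F.Nonempty := card_pos.1 (by omega)
  have hA : ({a} : Finset Ω) ⊆ F := singleton_subset_iff.2 ha
  have hS : ∀ R : Finset Ω, Disjoint R {a} → ∀ z ∈ R, ∃ y ∈ orb G {a} z, y ∉ F :=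
    fun R hR z hz => orb_point_meets IH hP hne hbad ha fun e =>
      disjoint_left.1 hR hz (mem_singleton.2 e)
  have hinv : ∀ h ∈ fixer G ({a} : Finset Ω), ∀ z ∈ ({a} : Finset Ω)ᶜ, h • z ∈ ({a} : Finset Ω)ᶜ :=
    fun h hh z hz => by
      rw [mem_compl] at hz ⊢
      exact fun e => hz (smul_left_cancel h (mem_fixer.1 hh _ e) ▸ e)
  have hcF : (({a} : Finset Ω)ᶜ ∩ F).card + 1 = F.card := by
    rw [show ({a} : Finset Ω)ᶜ ∩ F = F.erase a by ext; simp, card_erase_add_one ha]
  have hca : ({a} : Finset Ω)ᶜ.card + 1 = Fintype.card Ω := by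
    rw [card_compl, card_singleton]; omega
  have hx₀a : x₀ ∈ ({a} : Finset Ω)ᶜ := mem_compl.2 fun e => hx₀ (mem_singleton.1 e ▸ ha)
  have h1 := union_bound IH hP hA (singleton_nonempty a) _ hinv disjoint_compl_left
    (hS _ disjoint_compl_left) ⟨x₀, hx₀a⟩
  refine ⟨by omega, ?_, ⟨a, ha⟩⟩
  have hT : Trans G ({a} : Finset Ω) := by
    intro x y hx hy
    by_contra hno
    set Δ := orb G ({a} : Finset Ω) x
    set R := ({a} : Finset Ω)ᶜ \ Δ
    have hΔ : Δ ⊆ ({a} : Finset Ω)ᶜ := orb_subset (mem_compl.2 hx) hinv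
    have hy' : y ∈ R := mem_sdiff.2 ⟨mem_compl.2 hy, fun h => hno (mem_orb.1 h)⟩
    have h2 : 2 * (Δ ∩ F).card + 1 ≤ Δ.card := orb_bound IH hP hA (singleton_nonempty a) hx
      (orb_point_meets IH hP hne hbad ha fun e => hx (mem_singleton.2 e))
    have hRd : Disjoint R ({a} : Finset Ω) := disjoint_compl_left.mono_left sdiff_subset
    have h3 := union_bound IH hP hA (singleton_nonempty a) R (fun h hh z hz => by
      rw [mem_sdiff] at hz ⊢
      exact ⟨hinv h hh z hz.1, fun hm => hz.2 (by simpa using smul_mem_orb (inv_mem hh) hm)⟩)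
      hRd (hS _ hRd) ⟨y, hy'⟩
    have e1 : ({a} : Finset Ω)ᶜ.card = R.card + Δ.card := (card_sdiff_add_card_eq_card hΔ).symm
    have e2 : (({a} : Finset Ω)ᶜ ∩ F).card = (Δ ∩ F).card + (R ∩ F).card := by
      rw [← card_union_of_disjoint (disjoint_left.2 fun z hz hz' =>
        (mem_sdiff.1 (mem_inter.1 hz').1).2 (mem_inter.1 hz).1), ← union_inter_distrib_right,
        union_sdiff_of_subset hΔ]
    omega
  intro A hA2
  rcases Nat.lt_or_ge A.card 1 with h | h
  · intro x y _ _
    obtain ⟨g, hg⟩ := exists_smul_eq G x y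
    exact ⟨g, mem_fixer.2 fun z hz => absurd (card_pos.2 ⟨z, hz⟩) (by omega), hg⟩
  · obtain ⟨b, rfl⟩ := card_eq_one.1 (le_antisymm (Nat.le_of_lt_succ hA2) h)
    obtain ⟨g, rfl⟩ := exists_smul_eq G a b
    rw [← smul_finset_singleton]
    exact hT.smul g

end start

section moments

variable [Fintype G] {i : ℕ}

theorem sum_choose (h : HT G Ω i) {j : ℕ} (hj : j ≤ i) :
    (Fintype.card Ω).choose j * ∑ g : G, (F ∩ g • F).card.choose j =
      Fintype.card G * F.card.choose j * F.card.choose j := by
  classical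
  have hN : ∀ S : Finset Ω, ∀ m, (∀ A ∈ powersetCard j S, through G F A = m) →
      ∑ g : G, (S ∩ g • F).card.choose j = S.card.choose j * m := by
    intro S m hm
    calc ∑ g : G, (S ∩ g • F).card.choose j
        = ∑ g : G, ((powersetCard j S).filter fun A => A ⊆ g • F).card := by
          refine sum_congr rfl fun g _ => ?_
          rw [← card_powersetCard]
          refine congrArg Finset.card ?_
          ext A
          simp only [mem_powersetCard, mem_filter, subset_inter_iff]
          tauto
      _ = ∑ A ∈ powersetCard j S, (univ.filter fun g : G => A ⊆ g • F).card := by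
          simp only [card_filter]
          exact sum_comm
      _ = S.card.choose j * m := by
          rw [sum_const_nat (m := m), card_powersetCard]
          intro A hA
          rw [← hm A hA, through, Nat.card_eq_fintype_card, Fintype.card_subtype]
  by_cases hjk : j ≤ F.card
  · obtain ⟨A₀, hA₀, hc⟩ := exists_subset_card_eq hjk
    have hm : ∀ S : Finset Ω, ∀ A ∈ powersetCard j S, through G F A = through G F A₀ := fun S A hA => by
      obtain ⟨g, rfl⟩ := exists_smul_set h j hj A₀ A hc (mem_powersetCard.1 hA).2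
      exact through_smul g A₀
    have h1 := hN univ _ (hm univ)
    simp only [univ_inter, card_smul_finset, sum_const, smul_eq_mul, card_univ] at h1
    rw [hN F _ (hm F)]
    calc _ = F.card.choose j * ((Fintype.card Ω).choose j * through G F A₀) := by ring
      _ = _ := by rw [← h1]; ring
  · have h0 : F.card.choose j = 0 := Nat.choose_eq_zero_of_lt (by omega)
    rw [h0, mul_zero, mul_eq_zero]
    exact Or.inr (sum_eq_zero fun g _ => Nat.choose_eq_zero_of_lt (by
      have := card_le_card (inter_subset_left (s₁ := F) (s₂ := g • F)); omega))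

theorem cast_choose_three (x : ℕ) :
    (x.choose 3 : ℚ) = x * (x - 1) * (x - 2) / 6 := by
  induction x with
  | zero => simp
  | succ x ih =>
    rw [Nat.choose_succ_succ, Nat.cast_add, Nat.cast_choose_two, ih]
    push_cast
    ring

/-- Triple transitivity forces some translate to share more than half of `F`. -/
theorem exists_large_inter (h : HT G Ω i) (hi : 3 ≤ i) (hP : Pro G F) (hne : F.Nonempty)
    (hk : 2 ≤ F.card) (hn : Fintype.card Ω = 2 * F.card) :
    ∃ g : G, g • F ≠ F ∧ F.card < 2 * (F ∩ g • F).card := by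
  classical
  by_contra hno
  push Not at hno
  set k : ℚ := (F.card : ℚ) with hkdef
  have hk2 : (2 : ℚ) ≤ k := by rw [hkdef]; exact_mod_cast hk
  set N : ℚ := (Fintype.card G : ℚ) with hNdef
  set x : G → ℚ := fun g => ((F ∩ g • F).card : ℚ) with hxdef
  have hsum : ∀ j ≤ i, ((2 * F.card).choose j : ℚ) * ∑ g : G, ((F ∩ g • F).card.choose j : ℚ) =
      N * (F.card.choose j : ℚ) * (F.card.choose j : ℚ) := fun j hj => by
    have := sum_choose (F := F) h hj
    rw [hn] at this
    rw [hNdef]
    exact_mod_cast this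
  have h1 : 2 * ∑ g : G, x g = N * k := by
    have := hsum 1 (by omega)
    simp only [Nat.choose_one_right, Nat.cast_mul, Nat.cast_ofNat] at this
    refine mul_left_cancel₀ (a := k) (by positivity) ?_
    simp only [hxdef, hkdef] at this ⊢
    linear_combination this
  have h2 : (2 * k - 1) * ∑ g : G, x g * (x g - 1) = N * k * (k - 1) ^ 2 / 2 := by
    have := hsum 2 (by omega)
    simp only [Nat.cast_choose_two, Nat.cast_mul, Nat.cast_ofNat, ← sum_div] at this
    refine mul_left_cancel₀ (a := k) (by positivity) ?_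
    simp only [hxdef, hkdef] at this ⊢
    linear_combination 2 * this
  have h3 : (2 * k - 1) * ∑ g : G, x g * (x g - 1) * (x g - 2) =
      N * k * (k - 1) * (k - 2) ^ 2 / 4 := by
    have := hsum 3 hi
    simp only [cast_choose_three, Nat.cast_mul, Nat.cast_ofNat, ← sum_div] at this
    refine mul_left_cancel₀ (a := k * (k - 1)) (mul_ne_zero (by linarith) (by linarith)) ?_
    simp only [hxdef, hkdef] at this ⊢
    linear_combination 9 * this
  set z : G → ℚ := fun g => 2 * x g - k with hzdef
  have hz3 : ∑ g : G, z g ^ 3 = 0 := by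
    have e : ∀ g : G, z g ^ 3 = 8 * (x g * (x g - 1) * (x g - 2)) +
        (24 - 12 * k) * (x g * (x g - 1)) + (8 - 12 * k + 6 * k ^ 2) * x g - k ^ 3 :=
      fun g => by simp only [hzdef]; ring
    simp only [e, sum_sub_distrib, sum_add_distrib, ← mul_sum, sum_const, card_univ, nsmul_eq_mul]
    refine mul_left_cancel₀ (a := 2 * k - 1) (by linarith) ?_
    linear_combination 8 * h3 + (24 - 12 * k) * h2 + (2 * k - 1) * (4 - 6 * k + 3 * k ^ 2) * h1
  have hz1 : ∑ g : G, z g = 0 := by
    simp only [hzdef, sum_sub_distrib, ← mul_sum, sum_const, card_univ, nsmul_eq_mul]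
    linear_combination h1
  have hpos : 0 < ∑ g : G, (z g ^ 3 - (k - 1) ^ 2 * z g) := by
    refine sum_pos' (fun g _ => ?_) ⟨1, mem_univ _, ?_⟩
    · by_cases hg : g • F = F
      · have : z g = k := by simp only [hzdef, hxdef, hg, inter_self, ← hkdef]; ring
        rw [this]; nlinarith
      · have hle : 2 * x g ≤ k := by
          simp only [hxdef, hkdef]; exact_mod_cast hno g hg
        have hge : 1 ≤ x g := by
          simp only [hxdef]; exact_mod_cast one_lt_inter_compl hP hne hn g
        have e : z g ^ 3 - (k - 1) ^ 2 * z g = (-z g) * ((k - 1) - z g) * (z g + (k - 1)) := by ring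
        rw [e]
        refine mul_nonneg (mul_nonneg ?_ ?_) ?_ <;> simp only [hzdef] <;> linarith
    · have : z 1 = k := by simp only [hzdef, hxdef, one_smul, inter_self, ← hkdef]; ring
      rw [this]; nlinarith
  rw [sum_sub_distrib, ← mul_sum, hz3, hz1] at hpos
  simp at hpos

end moments

end Cfsg.Agent.Perm.Pronormal
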